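import Cfsg.Agent.H686.CharKit
import Cfsg.Agent.CharDeep.DegreeBound
import Cfsg.Agent.SmallSimple.SelfCentSum
import Cfsg.Agent.H51.Mult
import Cfsg.Agent.H65.Ore.Split_m3
import Cfsg.Agent.SmallSimple.TheoremCCor
import Cfsg.Agent.Blocks.SylowIn
import Cfsg.Agent.FastGrp
import Cfsg.Agent.Prune
set_option linter.all false

section
prune_inst 0x7ffcfffeefadbfffdfff7fbffed9dfffb3c4cfffffdffb43ffe9ebbfefdf23a379e5fba51fe0daffdf56e0b630b87853fb7eeeffea6fdc7ffffdf7b01ffbee4ff5f7b58951d48c3406ac0fff03f0770e6a3ffc7e77ffffffffffffffffffffffffffebfeffff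

-- part: H113/QS/LiftZ
section
prune_inst 0x2000000008000000000030000400000000000002020002600000000000000000000000000000000000000000000000000000000000000000001000000000000000080000000000800000000000000000000000000000000000
set_option linter.all false
open scoped Cfsg.Agent.FastGrp

-- part: H113/QS/Lies
section
/-!
# Central characters (helper113, tool for S2491, S2492)

`Z` central in `L`:
* `Lies Z θ χ` : `χ (g z) = χ g θ z`; `exists_lies`, `Lies.unique`;
* `sum_split` : a sum over the irreducible characters is the sum over the central characters;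
* `sum_lies_sq_le` : `∑_{χ over θ} ‖χ g‖² ≤ |C_K(π g)|`.
-/

set_option autoImplicit false
set_option linter.unusedSectionVars false

namespace Cfsg.Agent.H113.QS

open Cfsg Cfsg.Agent.Characters Subgroup
open scoped ComplexConjugate

universe u v

variable {L : Type u} [Group L] {K : Type v} [Group K]

/-- `χ` lies over the central character `θ`. -/
def Lies (Z : Subgroup L) (θ : Z → ℂ) (χ : L → ℂ) : Prop := ∀ (g : L) (z : Z), χ (g * z) = χ g * θ z

variable {Z : Subgroup L}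

theorem Lies.one_mul {θ : Z → ℂ} {χ : L → ℂ} (h : Lies Z θ χ) (z : Z) : χ z = χ 1 * θ z := by
  have := h 1 z
  rwa [_root_.one_mul] at this

variable [Finite L]

omit [Finite L] in
theorem irr_one_ne (χ : IrrCharacter L) : (χ : L → ℂ) 1 ≠ 0 := by
  obtain ⟨n, hn, h⟩ := Core.isIrr_apply_one χ.2
  rw [h]
  have : n ≠ 0 := by omega
  exact_mod_cast this

omit [Finite L] in
theorem Lies.unique {θ θ' : IrrCharacter Z} {χ : IrrCharacter L} (h : Lies Z (θ : Z → ℂ) (χ : L → ℂ))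
    (h' : Lies Z (θ' : Z → ℂ) (χ : L → ℂ)) : θ = θ' := by
  apply Subtype.ext
  funext z
  have h1 := h.one_mul z
  have h2 := h'.one_mul z
  rw [h1] at h2
  exact mul_left_cancel₀ (irr_one_ne χ) h2

theorem exists_lies (hZ : Z ≤ center L) (χ : IrrCharacter L) : ∃ θ : IrrCharacter Z, Lies Z (θ : Z → ℂ) (χ : L → ℂ) := by
  have := Fintype.ofFinite L
  have h1 := irr_one_ne χ
  have hw : ∀ z : Z, ∃ w : ℂ, ‖w‖ = 1 ∧ ∀ g, (χ : L → ℂ) (g * z) = w * (χ : L → ℂ) g :=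
    fun z => CharDeep.DegreeBound.exists_omega χ.2 (hZ z.2)
  choose w hw1 hw2 using hw
  have hw0 : ∀ z, w z ≠ 0 := fun z h => by
    have := hw1 z
    rw [h, norm_zero] at this
    exact zero_ne_one this
  have hmul : ∀ a b, w (a * b) = w a * w b := by
    intro a b
    apply mul_right_cancel₀ h1
    have h3 := hw2 (a * b) 1
    have h4 := hw2 b (1 * a)
    have h5 := hw2 a 1
    rw [← h3, mul_assoc (w a), mul_left_comm, ← h5, ← h4, Subgroup.coe_mul, mul_assoc]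
  let f : Z →* ℂˣ :=
    { toFun := fun z => Units.mk0 (w z) (hw0 z)
      map_one' := by
        ext
        have := hmul 1 1
        rw [mul_one] at this
        have h6 : w 1 = 1 := by
          have h7 : w 1 * 1 = w 1 * w 1 := by rw [mul_one]; exact this
          exact (mul_left_cancel₀ (hw0 1) h7).symm
        simpa using h6
      map_mul' := fun a b => by
        ext
        simpa using hmul a b }
  refine ⟨⟨fun z => (f z : ℂ), Linear.isIrrCharacter_hom f⟩, fun g z => ?_⟩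
  rw [hw2 z g, mul_comm]
  rfl

theorem theta_norm (hZ : Z ≤ center L) (θ : IrrCharacter Z) (z : Z) : ‖(θ : Z → ℂ) z‖ = 1 := by
  have h1 : (θ : Z → ℂ) 1 = 1 := SmallSimple.SelfCentSum.irr_apply_one_of_comm
    (fun a b => Subtype.ext (mem_center_iff.1 (hZ b.2) a)) θ.2
  obtain ⟨f, hf⟩ := Linear.exists_hom_of_isIrrCharacter θ.2 h1
  rw [hf]
  exact Linear.norm_hom_apply f z

theorem theta_one (hZ : Z ≤ center L) (θ : IrrCharacter Z) : (θ : Z → ℂ) 1 = 1 :=
  SmallSimple.SelfCentSum.irr_apply_one_of_comm (fun a b => Subtype.ext (mem_center_iff.1 (hZ b.2) a)) θ.2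

open Classical in
/-- the characters over `θ` -/
noncomputable def ov [Fintype (IrrCharacter L)] (Z : Subgroup L) (θ : Z → ℂ) : Finset (IrrCharacter L) :=
  Finset.univ.filter fun χ => Lies Z θ (χ : L → ℂ)

omit [Finite L] in
theorem mem_ov [Fintype (IrrCharacter L)] {θ : Z → ℂ} {χ : IrrCharacter L} : χ ∈ ov Z θ ↔ Lies Z θ (χ : L → ℂ) := by
  classical
  rw [ov, Finset.mem_filter]
  exact ⟨fun h => h.2, fun h => ⟨Finset.mem_univ _, h⟩⟩

theorem sum_split [Fintype (IrrCharacter L)] [Fintype (IrrCharacter Z)] (hZ : Z ≤ center L) {M : Type*}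
    [AddCommMonoid M] (f : IrrCharacter L → M) : ∑ χ, f χ = ∑ θ : IrrCharacter Z, ∑ χ ∈ ov Z (θ : Z → ℂ), f χ := by
  classical
  choose Θ hΘ using exists_lies (L := L) hZ
  rw [← Finset.sum_fiberwise (s := Finset.univ) (g := Θ)]
  refine Finset.sum_congr rfl fun θ _ => ?_
  refine Finset.sum_congr ?_ fun _ _ => rfl
  ext χ
  rw [Finset.mem_filter, mem_ov]
  constructor
  · rintro ⟨-, rfl⟩
    exact hΘ χ
  · intro h
    exact ⟨Finset.mem_univ _, (hΘ χ).unique h⟩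

/-- the central multiples of `g` in its class -/
def tr (Z : Subgroup L) (g : L) : Set Z := {z | IsConj g (g * z)}

/-- counting in the preimage of the centralizer -/
theorem card_mul_le [Finite K] {π : L →* K} (hs : Function.Surjective π) (g : L) :
    Nat.card (centralizer ({g} : Set L)) * Nat.card (tr π.ker g) ≤
      Nat.card π.ker * Nat.card (centralizer ({π g} : Set K)) := by
  classical
  have hy : ∀ z : tr π.ker g, ∃ y : L, y * g * y⁻¹ = g * (z : π.ker) := fun z => isConj_iff.1 z.2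
  choose y hy using hy
  let s : K → L := Function.surjInv hs
  have hsπ : ∀ k, π (s k) = k := Function.surjInv_eq hs
  rw [← Nat.card_prod, ← Nat.card_prod]
  refine Nat.card_le_card_of_injective (fun a : (centralizer ({g} : Set L)) × (tr π.ker g) =>
    ((⟨y a.2 * a.1 * (s (π (y a.2 * a.1)))⁻¹, ?_⟩ : π.ker),
      (⟨π (y a.2 * a.1), ?_⟩ : (centralizer ({π g} : Set K))))) ?_
  · rw [MonoidHom.mem_ker, map_mul _ (y a.2 * a.1), map_inv, hsπ, mul_inv_cancel]
  · rw [mem_centralizer_singleton_iff]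
    have h1 : (a.1 : L) * g = g * (a.1 : L) := mem_centralizer_singleton_iff.1 a.1.2
    have h2 : y a.2 * g = g * (a.2 : π.ker) * y a.2 := by rw [← hy a.2]; group
    have h3 : π ((a.2 : π.ker) : L) = 1 := (a.2 : π.ker).2
    rw [← map_mul, ← map_mul]
    calc π (y a.2 * a.1 * g) = π (y a.2 * g * a.1) := by rw [mul_assoc, h1, ← mul_assoc]
      _ = π (g * (y a.2 * a.1)) := by
        rw [h2, mul_assoc (g * _), map_mul, map_mul π g ((a.2 : π.ker) : L), h3, mul_one, ← map_mul]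
  · rintro ⟨c, z⟩ ⟨c', z'⟩ h
    have h1 := congrArg Prod.fst h
    have h2 := congrArg Prod.snd h
    have h1 : y z * c * (s (π (y z * c)))⁻¹ = y z' * c' * (s (π (y z' * c')))⁻¹ := congrArg Subtype.val h1
    have h2 : π (y z * c) = π (y z' * c') := congrArg Subtype.val h2
    rw [h2] at h1
    have h3 : y z * (c : L) = y z' * (c' : L) := mul_right_cancel h1
    have h4 : ∀ (z : tr π.ker g) (c : centralizer ({g} : Set L)), y z * c * g * (y z * c)⁻¹ = g * (z : π.ker) := by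
      intro z c
      have h5 : (c : L) * g = g * (c : L) := mem_centralizer_singleton_iff.1 c.2
      rw [← hy z]
      calc y z * (c : L) * g * (y z * (c : L))⁻¹ = y z * ((c : L) * g) * (c : L)⁻¹ * (y z)⁻¹ := by group
        _ = y z * g * (y z)⁻¹ := by rw [h5]; group
    have h6 := h4 z c
    rw [h3, h4 z' c'] at h6
    have h7 : z' = z := Subtype.ext (Subtype.ext (mul_left_cancel h6))
    subst h7
    exact Prod.ext (Subtype.ext (mul_left_cancel h3)) rfl

/-- **The second moment over a central character.** -/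
theorem sum_lies_sq_le [Finite K] [Fintype (IrrCharacter L)] {π : L →* K} (hs : Function.Surjective π)
    (hc : π.ker ≤ center L) (θ : IrrCharacter π.ker) (g : L) :
    ∑ χ ∈ ov π.ker (θ : π.ker → ℂ), ‖(χ : L → ℂ) g‖ ^ 2 ≤ (Nat.card (centralizer ({π g} : Set K)) : ℝ) := by
  classical
  have := Fintype.ofFinite L
  have := Fintype.ofFinite π.ker
  have : Finite (IrrCharacter π.ker) := Core.finite_irr
  have := Fintype.ofFinite (IrrCharacter π.ker)
  choose Θ hΘ using exists_lies (L := L) hc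
  have hm0 : (0 : ℝ) < (Nat.card π.ker : ℝ) := by exact_mod_cast Nat.card_pos
  -- the sum over `z`
  have h1 : ∑ z : π.ker, conj ((θ : π.ker → ℂ) z) * ∑ χ : IrrCharacter L, (χ : L → ℂ) (g * z) * conj ((χ : L → ℂ) g) =
      (Nat.card π.ker : ℂ) * ∑ χ ∈ ov π.ker (θ : π.ker → ℂ), (χ : L → ℂ) g * conj ((χ : L → ℂ) g) := by
    simp only [Finset.mul_sum]
    rw [Finset.sum_comm, ov, Finset.sum_filter]
    refine Finset.sum_congr rfl fun χ _ => ?_
    have h2 : ∀ z : π.ker, conj ((θ : π.ker → ℂ) z) * ((χ : L → ℂ) (g * z) * conj ((χ : L → ℂ) g)) =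
        (χ : L → ℂ) g * conj ((χ : L → ℂ) g) * ((Θ χ : π.ker → ℂ) z * conj ((θ : π.ker → ℂ) z)) := by
      intro z
      rw [hΘ χ g z]
      ring
    rw [Finset.sum_congr rfl fun z _ => h2 z, ← Finset.mul_sum]
    have h3 : ∑ z : π.ker, (Θ χ : π.ker → ℂ) z * conj ((θ : π.ker → ℂ) z) = if Θ χ = θ then (Nat.card π.ker : ℂ) else 0 := by
      have hcard : (Nat.card π.ker : ℂ) ≠ 0 := by exact_mod_cast Nat.card_pos.ne'
      split_ifs with h
      · have h4 := Core.classInner_irr_self θ.2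
        rw [classInner, inv_mul_eq_one₀ hcard, eq_comm] at h4
        rw [h]
        exact h4
      · have h4 := Core.classInner_irr_ne (Θ χ).2 θ.2 fun h5 => h (Subtype.ext h5)
        rw [classInner] at h4
        rcases mul_eq_zero.1 h4 with h5 | h5
        · exact absurd (inv_eq_zero.1 h5) hcard
        · exact h5
    rw [h3]
    by_cases h : Θ χ = θ
    · rw [if_pos h, if_pos (h ▸ hΘ χ)]; ring
    · rw [if_neg h, if_neg fun h5 => h ((hΘ χ).unique h5)]; ring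
  have h2 : ((Nat.card π.ker : ℝ) * ∑ χ ∈ ov π.ker (θ : π.ker → ℂ), ‖(χ : L → ℂ) g‖ ^ 2 : ℝ) =
      ‖∑ z : π.ker, conj ((θ : π.ker → ℂ) z) * ∑ χ : IrrCharacter L, (χ : L → ℂ) (g * z) * conj ((χ : L → ℂ) g)‖ := by
    rw [h1, norm_mul, Complex.norm_natCast]
    congr 1
    have h3 : (∑ χ ∈ ov π.ker (θ : π.ker → ℂ), (χ : L → ℂ) g * conj ((χ : L → ℂ) g)) =
        ((∑ χ ∈ ov π.ker (θ : π.ker → ℂ), ‖(χ : L → ℂ) g‖ ^ 2 : ℝ) : ℂ) := by
      push_cast
      refine Finset.sum_congr rfl fun χ _ => ?_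
      rw [Complex.mul_conj, Complex.normSq_eq_norm_sq]
      push_cast
      rfl
    rw [h3, Complex.norm_real, Real.norm_of_nonneg (Finset.sum_nonneg fun _ _ => by positivity)]
  have h3 : ‖∑ z : π.ker, conj ((θ : π.ker → ℂ) z) * ∑ χ : IrrCharacter L, (χ : L → ℂ) (g * z) * conj ((χ : L → ℂ) g)‖ ≤
      ∑ z : π.ker, if IsConj g (g * z) then (Nat.card (centralizer ({g} : Set L)) : ℝ) else 0 := by
    refine (norm_sum_le _ _).trans (Finset.sum_le_sum fun z _ => ?_)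
    rw [H686.CharKit.col_orth, norm_mul, RCLike.norm_conj, theta_norm hc θ z, _root_.one_mul]
    by_cases h : IsConj g (g * z)
    · rw [if_pos h, if_pos h.symm, Complex.norm_natCast]
    · rw [if_neg h, if_neg fun h5 => h h5.symm, norm_zero]
  have h4 : (∑ z : π.ker, if IsConj g (g * z) then (Nat.card (centralizer ({g} : Set L)) : ℝ) else 0) =
      (Nat.card (centralizer ({g} : Set L)) : ℝ) * Nat.card (tr π.ker g) := by
    rw [← Finset.sum_filter, Finset.sum_const, nsmul_eq_mul, mul_comm]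
    congr 2
    rw [tr, Nat.card_eq_fintype_card, Fintype.card_subtype]
    rfl
  rw [← h2, h4] at h3
  have h5 : ((Nat.card (centralizer ({g} : Set L)) * Nat.card (tr π.ker g) : ℕ) : ℝ) ≤
      ((Nat.card π.ker * Nat.card (centralizer ({π g} : Set K)) : ℕ) : ℝ) := by
    exact_mod_cast card_mul_le hs g
  push_cast at h5
  exact le_of_mul_le_mul_left (h3.trans h5) hm0

/-- **Orthogonality over a central character.** -/
theorem orth_lies [Fintype (IrrCharacter L)] {π : L →* K} (hc : π.ker ≤ center L) (θ : IrrCharacter π.ker) {g h : L}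
    (hgh : ∀ z : π.ker, ¬ IsConj (g * z) h) :
    ∑ χ ∈ ov π.ker (θ : π.ker → ℂ), (χ : L → ℂ) g * conj ((χ : L → ℂ) h) = 0 := by
  classical
  have := Fintype.ofFinite L
  have := Fintype.ofFinite π.ker
  choose Θ hΘ using exists_lies (L := L) hc
  have hcard : (Nat.card π.ker : ℂ) ≠ 0 := by exact_mod_cast Nat.card_pos.ne'
  have h1 : ∑ z : π.ker, conj ((θ : π.ker → ℂ) z) * ∑ χ : IrrCharacter L, (χ : L → ℂ) (g * z) * conj ((χ : L → ℂ) h) =
      (Nat.card π.ker : ℂ) * ∑ χ ∈ ov π.ker (θ : π.ker → ℂ), (χ : L → ℂ) g * conj ((χ : L → ℂ) h) := by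
    simp only [Finset.mul_sum]
    rw [Finset.sum_comm, ov, Finset.sum_filter]
    refine Finset.sum_congr rfl fun χ _ => ?_
    have h2 : ∀ z : π.ker, conj ((θ : π.ker → ℂ) z) * ((χ : L → ℂ) (g * z) * conj ((χ : L → ℂ) h)) =
        (χ : L → ℂ) g * conj ((χ : L → ℂ) h) * ((Θ χ : π.ker → ℂ) z * conj ((θ : π.ker → ℂ) z)) := by
      intro z
      rw [hΘ χ g z]
      ring
    rw [Finset.sum_congr rfl fun z _ => h2 z, ← Finset.mul_sum]
    have h3 : ∑ z : π.ker, (Θ χ : π.ker → ℂ) z * conj ((θ : π.ker → ℂ) z) = if Θ χ = θ then (Nat.card π.ker : ℂ) else 0 := by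
      split_ifs with h
      · have h4 := Core.classInner_irr_self θ.2
        rw [classInner, inv_mul_eq_one₀ hcard, eq_comm] at h4
        rw [h]
        exact h4
      · have h4 := Core.classInner_irr_ne (Θ χ).2 θ.2 fun h5 => h (Subtype.ext h5)
        rw [classInner] at h4
        rcases mul_eq_zero.1 h4 with h5 | h5
        · exact absurd (inv_eq_zero.1 h5) hcard
        · exact h5
    rw [h3]
    by_cases h : Θ χ = θ
    · rw [if_pos h, if_pos (h ▸ hΘ χ)]; ring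
    · rw [if_neg h, if_neg fun h5 => h ((hΘ χ).unique h5)]; ring
  have h2 : ∑ z : π.ker, conj ((θ : π.ker → ℂ) z) * ∑ χ : IrrCharacter L, (χ : L → ℂ) (g * z) * conj ((χ : L → ℂ) h) = 0 := by
    refine Finset.sum_eq_zero fun z _ => ?_
    rw [H686.CharKit.col_orth, if_neg (hgh z), mul_zero]
  rw [h2] at h1
  exact (mul_eq_zero.1 h1.symm).resolve_left hcard

end Cfsg.Agent.H113.QS
end

-- part: H113/QS/FourCore
section
/-!
# The fourth moment over one block of defect one (helper113, tool for S2491, S2492)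

The argument of `H65.Ore.sum_four_pow` for any family `NE ∪ X` with the values of a block of defect one.
-/

set_option autoImplicit false
set_option linter.unusedSectionVars false

namespace Cfsg.Agent.H113.QS

open Cfsg Cfsg.Agent.Characters Subgroup Cfsg.Agent.H65.Ore
open scoped ComplexConjugate

universe u

variable {G : Type u} [Group G] [Finite G] {p : ℕ} [hp : Fact p.Prime]

open Classical in
theorem four_core {P : Subgroup G} (hP : Nat.card P = p) {e t : ℕ}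
    (he : (centralizer (P : Set G)).relIndex (normalizer (P : Set G)) = e) (ht : e * t = p - 1) {x : G}
    (hx : x ∈ P) (hx1 : x ≠ 1) {NE X : Finset (IrrCharacter G)} {ε : IrrCharacter G → ℤ} {d : ℤ}
    {S : IrrCharacter G → Finset (P →* ℂˣ)} (hdis : Disjoint NE X) (hNE : NE.card = e) (hX : X.card = t)
    (hε : ∀ χ ∈ NE, ε χ = 1 ∨ ε χ = -1) (hd : d = 1 ∨ d = -1)
    (hv : ∀ χ ∈ NE, ∀ x ∈ P, x ≠ 1 → (χ : G → ℂ) x = ε χ)
    (hvX : ∀ Θ ∈ X, (S Θ).card = e ∧ 1 ∉ S Θ ∧ ∀ x : P, x ≠ 1 → (Θ : G → ℂ) x = d * ∑ l ∈ S Θ, ((l x : ℂˣ) : ℂ))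
    (hXd : ∀ Θ ∈ X, ∀ Θ' ∈ X, Θ ≠ Θ' → Disjoint (S Θ) (S Θ')) :
    (e : ℝ) * ∑ χ ∈ NE ∪ X, ‖(χ : G → ℂ) x‖ ^ 4 + (e : ℝ) ^ 4 = (e : ℝ) ^ 2 + p * (enr p e : ℝ) := by
  have ho : orderOf x = p := order_eq hP hx hx1
  have hxP : (⟨x, hx⟩ : P) ≠ 1 := fun h => hx1 (congrArg Subtype.val h)
  obtain ⟨hnorm, hcard⟩ := norm_facts (P := P) hP hx hx1 he
  obtain ⟨ψ, hψ, hψr⟩ := exists_psi (p := p)
  have he0 : e ≠ 0 := by
    rintro rfl
    have := hp.out.two_le
    omega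
  -- the exponents
  have h1 : ∀ l : P →* ℂˣ, ∃ a : ZMod p, ((l ⟨x, hx⟩ : ℂˣ) : ℂ) = ψ a := by
    intro l
    apply hψr
    rw [← Units.val_pow_eq_pow_val, ← map_pow]
    have h3 : x ^ p = 1 := by
      have h4 := pow_orderOf_eq_one x
      rwa [ho] at h4
    have h2 : (⟨x, hx⟩ : P) ^ p = 1 := Subtype.ext h3
    rw [h2, map_one, Units.val_one]
  choose ex hex using h1
  have hexk : ∀ (l : P →* ℂˣ) (k : ZMod p), ((l (⟨x, hx⟩ ^ k.val) : ℂˣ) : ℂ) = ψ (ex l * k) := by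
    intro l k
    rw [map_pow, Units.val_pow_eq_pow_val, hex]
    have : ψ (ex l * k) = ψ (k.val • ex l) := by
      congr 1
      rw [nsmul_eq_mul, ZMod.natCast_zmod_val, mul_comm]
    rw [this, AddChar.map_nsmul_eq_pow]
  have hinj : Function.Injective ex := by
    intro l l' hll
    ext ⟨y, hy⟩
    obtain ⟨k, rfl⟩ := exists_pow_eq hP hx hx1 hy
    have h2 := hexk l k
    have h3 := hexk l' k
    rw [hll, ← h3] at h2
    exact h2
  have hd1 : ‖(d : ℂ)‖ = 1 := by rcases hd with rfl | rfl <;> simp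
  have hd0 : (d : ℂ) ≠ 0 := by rcases hd with rfl | rfl <;> simp
  set A : IrrCharacter G → Finset (ZMod p) := fun Θ => (S Θ).image ex with hA
  have hAc : ∀ Θ ∈ X, (A Θ).card = e := fun Θ hΘ => by
    rw [hA, Finset.card_image_of_injective _ hinj, (hvX Θ hΘ).1]
  have hA0 : ∀ Θ ∈ X, (0 : ZMod p) ∉ A Θ := by
    intro Θ hΘ h0
    obtain ⟨l, hl, hl0⟩ := Finset.mem_image.1 h0
    apply (hvX Θ hΘ).2.1
    have h2 : ex 1 = 0 := by
      have h3 := hex 1
      rw [MonoidHom.one_apply, Units.val_one] at h3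
      exact (hψ.zmod_char_eq_one_iff p _).1 h3.symm
    rw [← h2] at hl0
    rw [← hinj hl0]
    exact hl
  -- the values
  have hval : ∀ Θ ∈ X, ∀ k : ZMod p, k ≠ 0 → (Θ : G → ℂ) (x ^ k.val) = d * ∑ a ∈ A Θ, ψ (a * k) := by
    intro Θ hΘ k hk
    have h2 := (hvX Θ hΘ).2.2 (⟨x, hx⟩ ^ k.val) (fun h3 => hk (by
      have h4 : x ^ k.val = x ^ 0 := by
        rw [pow_zero]
        exact congrArg Subtype.val h3
      rw [pow_val_eq ho] at h4
      simpa using h4))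
    rw [Subgroup.coe_pow] at h2
    rw [h2, hA, Finset.sum_image fun a _ b _ h => hinj h]
    congr 1
    exact Finset.sum_congr rfl fun l _ => hexk l k
  -- stability
  have hstab : ∀ Θ ∈ X, ∀ h ∈ HH p e, ∀ a ∈ A Θ, a * h ∈ A Θ := by
    intro Θ hΘ h hh a ha
    have hh0 : h ≠ 0 := by
      rintro rfl
      rw [mem_HH, zero_pow he0] at hh
      exact zero_ne_one hh
    have h2 : (A Θ).image (fun a => a * h) = A Θ := by
      apply eq_of_sums hψ
      intro k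
      rw [Finset.sum_image fun a _ b _ hab => mul_right_cancel₀ hh0 hab]
      by_cases hk : k = 0
      · subst hk
        simp
      · apply mul_left_cancel₀ hd0
        have h3 := hval Θ hΘ (h * k) (mul_ne_zero hh0 hk)
        obtain ⟨n, hn⟩ := hnorm h hh
        rw [pow_val_mul ho, ← hn, conj_pow, Core.isIrr_isClassFunction Θ.2 (x ^ k.val) n, hval Θ hΘ k hk] at h3
        rw [h3]
        congr 1
        refine Finset.sum_congr rfl fun a _ => ?_
        rw [mul_assoc]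
    rw [← h2]
    exact Finset.mem_image_of_mem _ ha
  have hcos : ∀ Θ ∈ X, ∀ a ∈ A Θ, (HH p e).image (fun h => a * h) = A Θ := by
    intro Θ hΘ a ha
    have ha0 : a ≠ 0 := fun h => hA0 Θ hΘ (h ▸ ha)
    apply Finset.eq_of_subset_of_card_le
    · intro b hb
      obtain ⟨h, hh, rfl⟩ := Finset.mem_image.1 hb
      exact hstab Θ hΘ h hh a ha
    · rw [Finset.card_image_of_injective _ (mul_right_injective₀ ha0), hcard, hAc Θ hΘ]
  have heta : ∀ Θ ∈ X, ∀ a ∈ A Θ, ‖∑ h ∈ HH p e, ψ (a * h)‖ = ‖(Θ : G → ℂ) x‖ := by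
    intro Θ hΘ a ha
    have ha0 : a ≠ 0 := fun h => hA0 Θ hΘ (h ▸ ha)
    have h2 : ∑ h ∈ HH p e, ψ (a * h) = ∑ b ∈ A Θ, ψ b := by
      rw [← hcos Θ hΘ a ha, Finset.sum_image fun b _ c _ h => mul_right_injective₀ ha0 h]
    have h3 := hval Θ hΘ 1 one_ne_zero
    have h4 : x ^ (1 : ZMod p).val = x := by
      have := (pow_val_eq ho (k := (1 : ZMod p)) (n := 1)).2 (by simp)
      rw [this, pow_one]
    simp only [h4, mul_one] at h3
    rw [h2, h3, norm_mul, hd1, one_mul]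
  -- covering
  have hcov : X.biUnion A = Finset.univ.erase 0 := by
    apply Finset.eq_of_subset_of_card_le
    · intro a ha
      obtain ⟨Θ, hΘ, ha⟩ := Finset.mem_biUnion.1 ha
      exact Finset.mem_erase.2 ⟨fun h => hA0 Θ hΘ (h ▸ ha), Finset.mem_univ _⟩
    · rw [Finset.card_biUnion, Finset.sum_congr rfl hAc, Finset.sum_const, hX, smul_eq_mul,
        Finset.card_erase_of_mem (Finset.mem_univ _), Finset.card_univ, ZMod.card, ← ht, mul_comm]
      intro Θ hΘ Θ' hΘ' hne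
      exact (Finset.disjoint_image hinj).2 (hXd Θ hΘ Θ' hΘ' hne)
  have hsum := sum_four hψ (HH p e)
  rw [← Finset.add_sum_erase Finset.univ _ (Finset.mem_univ (0 : ZMod p)), ← hcov, Finset.sum_biUnion] at hsum
  · have h5 : ∀ Θ ∈ X, ∑ a ∈ A Θ, ‖∑ h ∈ HH p e, ψ (a * h)‖ ^ 4 = (e : ℝ) * ‖(Θ : G → ℂ) x‖ ^ 4 := by
      intro Θ hΘ
      rw [Finset.sum_congr rfl fun a ha => by rw [heta Θ hΘ a ha], Finset.sum_const, hAc Θ hΘ, nsmul_eq_mul]
    rw [Finset.sum_congr rfl h5, ← Finset.mul_sum] at hsum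
    have h6 : ‖∑ h ∈ HH p e, ψ (0 * h)‖ ^ 4 = (e : ℝ) ^ 4 := by
      simp [hcard]
    rw [h6, en_eq] at hsum
    have h7 : ∑ χ ∈ NE ∪ X, ‖(χ : G → ℂ) x‖ ^ 4 = e + ∑ Θ ∈ X, ‖(Θ : G → ℂ) x‖ ^ 4 := by
      rw [Finset.sum_union hdis]
      congr 1
      rw [Finset.sum_congr rfl (g := fun _ => (1 : ℝ)), Finset.sum_const, hNE, nsmul_eq_mul, mul_one]
      intro χ hχ
      rw [hv χ hχ x hx hx1]
      rcases hε χ hχ with h | h <;> rw [h] <;> simp
    rw [h7]
    linear_combination hsum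
  · intro Θ hΘ Θ' hΘ' hne
    exact (Finset.disjoint_image hinj).2 (hXd Θ hΘ Θ' hΘ' hne)

end Cfsg.Agent.H113.QS
end

-- part: H113/QS/SieveZ
section
/-!
# The sieve in a perfect central extension (helper113, tool C4 for S2491, S2492)

`Z` central of order prime to `p`, `P` of order `p`, `C(P) = P Z`.

* `SZ L Z p S` : for every `x` of order `p` and every `θ ∈ Irr Z`: `∑_{χ over θ} ‖χ x‖⁴ ≤ S`, and `χ x ≠ 0 → ¬ p ∣ χ(1)`;
* `SZ.of_sylow` : `SZ` from a Sylow subgroup;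
* `SZ.prd` : the sieve with a lower bound `D θ` for the degrees over `θ`;
* `SZ.prd'` : the sieve with two bounds: `d₁` (characters of `K`) and `d₂` (all the others).
-/

set_option autoImplicit false
set_option linter.unusedSectionVars false

namespace Cfsg.Agent.H113.QS

open Cfsg Cfsg.Agent.Characters Subgroup Cfsg.Agent.H65.Ore
open Cfsg.Agent.SmallSimple.ThetaSetup Cfsg.Agent.SmallSimple.ThetaOrtho
open Cfsg.Agent.SmallSimple.TheoremC Cfsg.Agent.SmallSimple.TheoremCCor Cfsg.Agent.SmallSimple.ThetaCount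
open scoped ComplexConjugate

universe u v

variable {L : Type u} [Group L] {K : Type v} [Group K]

/-- The moments over the central characters. -/
structure SZ (L : Type u) [Group L] (Z : Subgroup L) (p S : ℕ) : Prop where
  four : ∀ [Fintype (IrrCharacter L)] (x : L), orderOf x = p → ∀ θ : IrrCharacter Z,
    ∑ χ ∈ ov Z (θ : Z → ℂ), ‖(χ : L → ℂ) x‖ ^ 4 ≤ (S : ℝ)
  ndvd : ∀ x : L, orderOf x = p → ∀ χ : IrrCharacter L, (χ : L → ℂ) x ≠ 0 → ¬ p ∣ charDegree (χ : L → ℂ)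

variable [Finite L] {Z : Subgroup L}

section Local

variable {p : ℕ} [hp : Fact p.Prime] {P : Sylow p L}

theorem part_of_lies (hZ : Z ≤ center L) {θ : IrrCharacter Z} {χ : IrrCharacter L}
    (h : Lies Z (θ : Z → ℂ) (χ : L → ℂ)) (x : L) : part (θ : Z → ℂ) (χ : L → ℂ) x = (χ : L → ℂ) x := by
  have := Fintype.ofFinite Z
  have h0 : (Nat.card Z : ℂ) ≠ 0 := by exact_mod_cast Nat.card_pos.ne'
  rw [part_eq, Finset.sum_congr rfl (g := fun _ => (χ : L → ℂ) x)]
  · rw [Finset.sum_const, Finset.card_univ, nsmul_eq_mul, ← Nat.card_eq_fintype_card, ← mul_assoc,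
      inv_mul_cancel₀ h0, _root_.one_mul]
  · intro y _
    rw [h x y, mul_assoc, Complex.mul_conj, Complex.normSq_eq_norm_sq, theta_norm hZ θ y]
    simp

theorem stable (hZ : Z ≤ center L) (hK : IsComp p (P : Subgroup L) Z) (θ : IrrCharacter Z) :
    ∀ n ∈ normalizer ((P : Subgroup L) : Set L), tw (θ : Z → ℂ) n = (θ : Z → ℂ) := by
  intro n hn
  funext y
  rw [tw_apply hK _ hn]
  refine congrArg (θ : Z → ℂ) (Subtype.ext ?_)
  show n * (y : L) * n⁻¹ = y
  rw [mem_center_iff.1 (hZ y.2) n]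
  group

theorem lies_of_over (hZ : Z ≤ center L) (hK : IsComp p (P : Subgroup L) Z) (hP : Nat.card P = p)
    {θ : IrrCharacter Z} {χ : IrrCharacter L} (h : χ ∈ Over P (θ : Z → ℂ)) : Lies Z (θ : Z → ℂ) (χ : L → ℂ) := by
  obtain ⟨θ', hθ'⟩ := exists_lies hZ χ
  obtain ⟨x, hx1, hx⟩ := mem_Over.1 h
  have h2 : θ' = θ := by
    apply Subtype.ext
    funext z
    have h3 := apply_of_stable hK hP θ.2 (stable hZ hK θ) h hx1 z
    have h4 := apply_of_stable hK hP θ.2 (stable hZ hK θ) h hx1 1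
    rw [theta_one hZ θ, mul_one, Subgroup.coe_one, mul_one] at h4
    rw [hθ' x z, h4] at h3
    exact mul_left_cancel₀ hx h3
  exact h2 ▸ hθ'

theorem moment (hZ : Z ≤ center L) (hK : IsComp p (P : Subgroup L) Z) (hP : Nat.card P = p) {e t : ℕ}
    (he : (centralizer ((P : Subgroup L) : Set L)).relIndex (normalizer ((P : Subgroup L) : Set L)) = e)
    (ht : e * t = p - 1) {x : L} (hx : x ∈ (P : Subgroup L)) (hx1 : x ≠ 1) [Fintype (IrrCharacter L)]
    (θ : IrrCharacter Z) :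
    (e : ℝ) * ∑ χ ∈ ov Z (θ : Z → ℂ), ‖(χ : L → ℂ) x‖ ^ 4 + (e : ℝ) ^ 4 = (e : ℝ) ^ 2 + p * (enr p e : ℝ) ∧
      ∀ χ ∈ ov Z (θ : Z → ℂ), (χ : L → ℂ) x ≠ 0 → ¬ p ∣ charDegree (χ : L → ℂ) := by
  classical
  have hst := stable hZ hK θ
  have he' := (card_stabAct_of_stable hK hP θ.2 hst).trans he
  obtain ⟨NE, X, ε, d, S, hOv, hdis, hNE, hX, hε, hd, hv, hvX, hXd, -, -⟩ := theoremC hK hP θ.2 he' ht
  have hpart : ∀ χ : IrrCharacter L, (χ ∈ NE ∨ χ ∈ X) → Lies Z (θ : Z → ℂ) (χ : L → ℂ) ∧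
      ∀ y : L, part (θ : Z → ℂ) (χ : L → ℂ) y = (χ : L → ℂ) y := by
    intro χ hχ
    have h1 := lies_of_over hZ hK hP ((hOv χ).2 hχ)
    exact ⟨h1, part_of_lies hZ h1⟩
  have hzero : ∀ χ ∈ ov Z (θ : Z → ℂ), χ ∉ NE ∪ X → (χ : L → ℂ) x = 0 := by
    intro χ hχ hn
    by_contra h0
    apply hn
    obtain ⟨θ', hθ'⟩ := exists_mem_Over hK hP (χ := χ) ⟨x, by rw [order_eq hP hx hx1], h0⟩
    have h1 := lies_of_over hZ hK hP hθ'
    have h2 := (mem_ov.1 hχ).unique h1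
    rw [← h2] at hθ'
    exact Finset.mem_union.2 ((hOv χ).1 hθ')
  have hsub : NE ∪ X ⊆ ov Z (θ : Z → ℂ) := by
    intro χ hχ
    exact mem_ov.2 (hpart χ (Finset.mem_union.1 hχ)).1
  constructor
  · rw [← Finset.sum_subset hsub fun χ h1 h2 => by rw [hzero χ h1 h2]; simp]
    refine four_core (P := (P : Subgroup L)) hP he ht hx hx1 hdis hNE hX hε hd ?_ ?_ hXd
    · intro χ hχ y hy hy1
      have h1 := hv χ hχ ⟨y, hy⟩ fun h => hy1 (congrArg Subtype.val h)
      rw [(hpart χ (Or.inl hχ)).2] at h1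
      exact h1
    · intro Θ hΘ
      obtain ⟨h1, h2, -, h3⟩ := hvX Θ hΘ
      refine ⟨h1, h2, fun y hy => ?_⟩
      rw [← h3 y hy, (hpart Θ (Or.inr hΘ)).2]
  · intro χ hχ h0 hdvd
    have hmem : χ ∈ NE ∪ X := by
      by_contra h
      exact h0 (hzero χ hχ h)
    rw [Finset.mem_union] at hmem
    obtain ⟨k, hk⟩ := hdvd
    have h1 := cast_deg χ
    rw [hk] at h1
    have hpn : ∀ {a m : ℤ}, ((p * k : ℕ) : ℂ) = (a + p * m : ℤ) → (p : ℤ) ∣ a := by
      intro a m h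
      have h2 : ((p * k : ℕ) : ℤ) = a + p * m := by exact_mod_cast h
      refine ⟨k - m, ?_⟩
      push_cast at h2
      linarith only [h2]
    have hpp := (hpart χ hmem).2 1
    rcases hmem with hm | hm
    · obtain ⟨m, hm'⟩ := part_one_of_const hK hP (isCharacter_of_irr χ) θ.2 (hv χ hm)
      rw [hpp, h1] at hm'
      have h3 := hpn (a := ε χ) (m := m) (by push_cast; exact_mod_cast hm')
      have h4 : (p : ℤ) ∣ 1 := by
        rcases hε χ hm with h | h
        · rwa [h] at h3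
        · rw [h] at h3; exact (Int.dvd_neg.1 h3)
      have h5 : p ∣ 1 := by exact_mod_cast h4
      exact hp.out.one_lt.ne' (Nat.dvd_one.1 h5)
    · obtain ⟨hSc, hS1, -, hSv⟩ := hvX χ hm
      obtain ⟨m, hm'⟩ := part_one_of_exc hK hP (isCharacter_of_irr χ) θ.2 hS1 hSv
      rw [hpp, h1, hSc] at hm'
      have h3 := hpn (a := d * e) (m := m) (by push_cast; exact_mod_cast hm')
      have h4 : (p : ℤ) ∣ (e : ℤ) := by
        rcases hd with h | h
        · rwa [h, _root_.one_mul] at h3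
        · rw [h, neg_one_mul] at h3; exact (Int.dvd_neg.1 h3)
      have h5 : p ∣ e := by exact_mod_cast h4
      have he0 : e ≠ 0 := by
        rintro rfl
        have := hp.out.two_le
        omega
      have h6 := Nat.le_of_dvd (Nat.pos_of_ne_zero he0) h5
      have h7 : e ≤ p - 1 := Nat.le_of_dvd (by have := hp.out.two_le; omega) ⟨t, ht.symm⟩
      have := hp.out.two_le
      omega
where
  isCharacter_of_irr (χ : IrrCharacter L) : IsCharacter L (χ : L → ℂ) := Core.isIrr_isCharacter χ.2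

/-- **The constructor.** -/
theorem SZ.of_sylow (hZ : Z ≤ center L) (hK : IsComp p (P : Subgroup L) Z) (hP : Nat.card P = p) {e t S : ℕ}
    (he : (centralizer ((P : Subgroup L) : Set L)).relIndex (normalizer ((P : Subgroup L) : Set L)) = e)
    (ht : e * t = p - 1) (hS : e ^ 2 + p * enr p e ≤ e * S + e ^ 4)
    (hconj : ∀ y : L, orderOf y = p → ∃ z ∈ (P : Subgroup L), z ≠ 1 ∧ IsConj y z) : SZ L Z p S := by
  classical
  have he0 : 0 < e := by
    rcases Nat.eq_zero_or_pos e with h | h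
    · rw [h, zero_mul] at ht
      have := hp.out.two_le
      omega
    · exact h
  have hval : ∀ {y z : L}, IsConj y z → ∀ χ : IrrCharacter L, (χ : L → ℂ) y = (χ : L → ℂ) z := by
    intro y z hyz χ
    obtain ⟨g, rfl⟩ := isConj_iff.1 hyz
    exact (Core.isIrr_isClassFunction χ.2 y g).symm
  refine ⟨fun {_} y hy θ => ?_, fun y hy χ h0 => ?_⟩
  · obtain ⟨z, hz, hz1, hyz⟩ := hconj y hy
    simp only [hval hyz]
    have h4 := (moment hZ hK hP he ht hz hz1 θ).1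
    have h5 : ((e ^ 2 + p * enr p e : ℕ) : ℝ) ≤ ((e * S + e ^ 4 : ℕ) : ℝ) := by exact_mod_cast hS
    push_cast at h5
    have h6 : (0 : ℝ) < e := by exact_mod_cast he0
    have h7 : (e : ℝ) * ∑ χ ∈ ov Z (θ : Z → ℂ), ‖(χ : L → ℂ) z‖ ^ 4 ≤ (e : ℝ) * S := by linarith only [h4, h5]
    exact le_of_mul_le_mul_left h7 h6
  · obtain ⟨z, hz, hz1, hyz⟩ := hconj y hy
    have : Finite (IrrCharacter L) := Core.finite_irr
    have := Fintype.ofFinite (IrrCharacter L)
    obtain ⟨θ, hθ⟩ := exists_lies hZ χ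
    rw [hval hyz] at h0
    exact (moment hZ hK hP he ht hz hz1 θ).2 χ (mem_ov.2 hθ) h0

end Local

section Criterion

omit [Finite L] in
/-- one central character -/
theorem block_le {x y g : L} {s : Finset (IrrCharacter L)} {D S c : ℝ} (hD0 : 0 < D)
    (hD : ∀ χ ∈ s, (χ : L → ℂ) x ≠ 0 → (χ : L → ℂ) y ≠ 0 → D ≤ ‖(χ : L → ℂ) 1‖)
    (hx : ∑ χ ∈ s, ‖(χ : L → ℂ) x‖ ^ 4 ≤ S) (hy : ∑ χ ∈ s, ‖(χ : L → ℂ) y‖ ^ 4 ≤ S)
    (hg : ∑ χ ∈ s, ‖(χ : L → ℂ) g‖ ^ 2 ≤ c) :
    ∑ χ ∈ s, ‖(χ : L → ℂ) x‖ * ‖(χ : L → ℂ) y‖ * ‖(χ : L → ℂ) g‖ / ‖(χ : L → ℂ) 1‖ ≤ √(S * c) / D := by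
  have h1 : ∑ χ ∈ s, ‖(χ : L → ℂ) x‖ * ‖(χ : L → ℂ) y‖ * ‖(χ : L → ℂ) g‖ / ‖(χ : L → ℂ) 1‖ ≤
      (∑ χ ∈ s, (‖(χ : L → ℂ) x‖ * ‖(χ : L → ℂ) y‖) * ‖(χ : L → ℂ) g‖) / D := by
    rw [Finset.sum_div]
    refine Finset.sum_le_sum fun χ hχ => ?_
    by_cases h1 : (χ : L → ℂ) x = 0
    · rw [h1]; simp
    by_cases h2 : (χ : L → ℂ) y = 0
    · rw [h2]; simp
    have h3 := hD χ hχ h1 h2
    gcongr
  have h2 : ∑ χ ∈ s, (‖(χ : L → ℂ) x‖ * ‖(χ : L → ℂ) y‖) ^ 2 ≤ S := by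
    have h3 : ∀ χ ∈ s, (‖(χ : L → ℂ) x‖ * ‖(χ : L → ℂ) y‖) ^ 2 ≤
        (‖(χ : L → ℂ) x‖ ^ 4 + ‖(χ : L → ℂ) y‖ ^ 4) / 2 := by
      intro χ _
      linarith only [sq_nonneg (‖(χ : L → ℂ) x‖ ^ 2 - ‖(χ : L → ℂ) y‖ ^ 2)]
    have h4 := Finset.sum_le_sum h3
    rw [← Finset.sum_div, Finset.sum_add_distrib] at h4
    linarith only [hx, hy, h4]
  have h3 := Real.sum_mul_le_sqrt_mul_sqrt s (fun χ : IrrCharacter L => ‖(χ : L → ℂ) x‖ * ‖(χ : L → ℂ) y‖)
    (fun χ : IrrCharacter L => ‖(χ : L → ℂ) g‖)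
  have hS0 : 0 ≤ S := (Finset.sum_nonneg fun _ _ => by positivity).trans hx
  have h4 : √(∑ χ ∈ s, (‖(χ : L → ℂ) x‖ * ‖(χ : L → ℂ) y‖) ^ 2) * √(∑ χ ∈ s, ‖(χ : L → ℂ) g‖ ^ 2) ≤ √(S * c) := by
    rw [Real.sqrt_mul hS0]
    exact mul_le_mul (Real.sqrt_le_sqrt h2) (Real.sqrt_le_sqrt hg) (Real.sqrt_nonneg _) (Real.sqrt_nonneg _)
  refine h1.trans ?_
  gcongr
  exact h3.trans h4

variable [Finite K] {π : L →* K} {p S : ℕ}

omit [Finite L] in
theorem one_lies : Lies π.ker (one1 π.ker : π.ker → ℂ) (one1 L : L → ℂ) := fun _ _ => by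
  simp only [one1_apply, mul_one]

/-- **The sieve in `L`.** -/
theorem SZ.prd (h : SZ L π.ker p S) (hs : Function.Surjective π) (hc : π.ker ≤ center L) {x y g : L}
    (hx : orderOf x = p) (hy : orderOf y = p) [Fintype (IrrCharacter π.ker)] [DecidableEq (IrrCharacter π.ker)]
    (D : IrrCharacter π.ker → ℝ) (hD0 : ∀ θ, 0 < D θ)
    (hD : ∀ (θ : IrrCharacter π.ker) (χ : IrrCharacter L), Lies π.ker (θ : π.ker → ℂ) (χ : L → ℂ) →
      (χ : L → ℂ) ≠ 1 → ¬ p ∣ charDegree (χ : L → ℂ) → D θ ≤ charDegree (χ : L → ℂ))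
    {c : ℕ} (hcard : Nat.card (centralizer ({π g} : Set K)) ≤ c) {A B : ℝ} (hA0 : 0 ≤ A)
    (hA : ((S : ℝ) - 1) * ((c : ℝ) - 1) ≤ A ^ 2) (hB0 : 0 ≤ B) (hB : (S : ℝ) * c ≤ B ^ 2)
    (hsum : A / D (one1 π.ker) + ∑ θ ∈ Finset.univ.erase (one1 π.ker), B / D θ < 1) : Prd x y g := by
  classical
  have : Finite (IrrCharacter L) := Core.finite_irr
  have := Fintype.ofFinite (IrrCharacter L)
  apply prd_of_sum_lt
  rw [sum_split hc, ← Finset.add_sum_erase Finset.univ _ (Finset.mem_univ (one1 π.ker)),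
    ← Finset.add_sum_erase (ov π.ker (one1 π.ker : π.ker → ℂ)) _ (mem_ov.2 one_lies)]
  simp only [one1_apply, norm_one, mul_one, div_one]
  have hcR : (Nat.card (centralizer ({π g} : Set K)) : ℝ) ≤ c := by exact_mod_cast hcard
  -- the degrees
  have hdeg : ∀ (θ : IrrCharacter π.ker) (χ : IrrCharacter L), Lies π.ker (θ : π.ker → ℂ) (χ : L → ℂ) →
      (χ : L → ℂ) ≠ 1 → (χ : L → ℂ) x ≠ 0 → D θ ≤ ‖(χ : L → ℂ) 1‖ := by
    intro θ χ h1 h2 h3
    rw [cast_deg, Complex.norm_natCast]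
    exact hD θ χ h1 h2 (h.ndvd x hx χ h3)
  -- the trivial central character
  have ht1 := one_lies (π := π)
  have e4 : ∀ z : L, orderOf z = p →
      ∑ χ ∈ (ov π.ker (one1 π.ker : π.ker → ℂ)).erase (one1 L), ‖(χ : L → ℂ) z‖ ^ 4 ≤ (S : ℝ) - 1 := by
    intro z hz
    have h1 := h.four z hz (one1 π.ker)
    rw [← Finset.add_sum_erase _ _ (mem_ov.2 ht1)] at h1
    simp only [one1_apply, norm_one, one_pow] at h1
    linarith only [h1]
  have e2 : ∑ χ ∈ (ov π.ker (one1 π.ker : π.ker → ℂ)).erase (one1 L), ‖(χ : L → ℂ) g‖ ^ 2 ≤ (c : ℝ) - 1 := by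
    have h1 := sum_lies_sq_le hs hc (one1 π.ker) g
    rw [← Finset.add_sum_erase _ _ (mem_ov.2 ht1)] at h1
    simp only [one1_apply, norm_one, one_pow] at h1
    linarith only [hcR, h1]
  have b1 := block_le (hD0 (one1 π.ker)) (fun χ hχ h1 _ => hdeg (one1 π.ker) χ
    (mem_ov.1 (Finset.mem_of_mem_erase hχ)) (coe_ne_one (Finset.ne_of_mem_erase hχ)) h1) (e4 x hx) (e4 y hy) e2
  have b1' : √(((S : ℝ) - 1) * ((c : ℝ) - 1)) / D (one1 π.ker) ≤ A / D (one1 π.ker) := by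
    have := hD0 (one1 π.ker)
    gcongr
    exact Real.sqrt_le_iff.2 ⟨hA0, hA⟩
  have b2 : ∀ θ ∈ Finset.univ.erase (one1 π.ker), ∑ χ ∈ ov π.ker (θ : π.ker → ℂ),
      ‖(χ : L → ℂ) x‖ * ‖(χ : L → ℂ) y‖ * ‖(χ : L → ℂ) g‖ / ‖(χ : L → ℂ) 1‖ ≤ B / D θ := by
    intro θ hθ
    have hθ1 := Finset.ne_of_mem_erase hθ
    have h1 := block_le (x := x) (y := y) (g := g) (s := ov π.ker (θ : π.ker → ℂ)) (hD0 θ)
      (fun χ hχ h1 _ => hdeg θ χ (mem_ov.1 hχ) (fun h2 => hθ1 (by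
        have h3 : χ = one1 L := Subtype.ext h2
        have h4 := mem_ov.1 hχ
        rw [h3] at h4
        exact h4.unique ht1)) h1) (h.four x hx θ) (h.four y hy θ) ((sum_lies_sq_le hs hc θ g).trans hcR)
    refine h1.trans ?_
    have := hD0 θ
    gcongr
    exact Real.sqrt_le_iff.2 ⟨hB0, hB⟩
  have b3 := Finset.sum_le_sum b2
  linarith only [hsum, b1, b1', b3]

end Criterion

end Cfsg.Agent.H113.QS
end

-- part: H113/QS/LiftZ
section
/-!
# The sieve data of a central extension of a simple group (helper113, tool C4 for S2491, S2492)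

* `SZ.lift` : `K` simple, `x₀` of order `p` with `|C(x₀)| = p`, the numerical check of `H65.Ore.sc_of`; `π : L →* K` onto with
  central kernel of order prime to `p`: `SZ L π.ker p S`, and `x₀` has a lift of order `p`;
* `deg_base` : the degrees over the trivial central character are the degrees of `K`;
* `card_irr_ker` : `|Irr Z| = |Z|`;
* `SZ.prd_two` : the sieve with two bounds `d₁`, `d₂` and a numerical check.
-/

set_option autoImplicit false
set_option linter.unusedSectionVars false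

namespace Cfsg.Agent.H113.QS

open Cfsg Cfsg.Agent.Characters Subgroup Cfsg.Agent.H65.Ore
open Cfsg.Agent.SmallSimple.ThetaSetup
open scoped ComplexConjugate

universe u v

variable {L : Type u} [Group L] [Finite L] {K : Type v} [Group K] [Finite K] {π : L →* K}

/-- a lift of order `p` -/
theorem exists_lift (hs : Function.Surjective π) {p : ℕ} (hp : p.Prime)
    (hZ : ¬ p ∣ Nat.card π.ker) {x₀ : K} (hx : orderOf x₀ = p) : ∃ x : L, orderOf x = p ∧ π x = x₀ := by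
  obtain ⟨y, hy⟩ := hs x₀
  have hcop : p.Coprime (Nat.card π.ker) := (hp.coprime_iff_not_dvd).2 hZ
  obtain ⟨m, hm1, hm2⟩ := Nat.chineseRemainder hcop 1 0
  have h1 : π (y ^ m) = x₀ := by
    rw [map_pow, hy]
    have h2 : x₀ ^ m = x₀ ^ 1 := by
      rw [pow_eq_pow_iff_modEq, hx]
      exact hm1
    rw [h2, pow_one]
  have h3 : y ^ p ∈ π.ker := by
    rw [MonoidHom.mem_ker, map_pow, hy, ← hx, pow_orderOf_eq_one]
  have h4 : (y ^ p) ^ m = 1 := by
    obtain ⟨k, hk⟩ := (Nat.modEq_zero_iff_dvd).1 hm2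
    have h5 : (⟨y ^ p, h3⟩ : π.ker) ^ Nat.card π.ker = 1 := pow_card_eq_one'
    have h6 : (y ^ p) ^ Nat.card π.ker = 1 := congrArg Subtype.val h5
    rw [hk, pow_mul, h6, one_pow]
  refine ⟨y ^ m, ?_, h1⟩
  have : Fact p.Prime := ⟨hp⟩
  apply orderOf_eq_prime
  · rw [← pow_mul, mul_comm, pow_mul, h4]
  · intro h5
    rw [h5, map_one] at h1
    rw [← h1, orderOf_one] at hx
    exact hp.one_lt.ne hx

theorem card_eq_mul (hs : Function.Surjective π) : Nat.card L = Nat.card π.ker * Nat.card K := by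
  have h1 := Subgroup.card_mul_index π.ker
  rw [← h1, Subgroup.index_ker, Nat.card_congr (MonoidHom.range_eq_top.2 hs ▸ Subgroup.topEquiv.toEquiv : π.range ≃ K)]

theorem eq_one_of_ker {p : ℕ} (hp : p.Prime) (hZ : ¬ p ∣ Nat.card π.ker) {z : L} (hz : z ∈ π.ker) (hzp : z ^ p = 1) :
    z = 1 := by
  by_contra h
  apply hZ
  have h1 : orderOf (⟨z, hz⟩ : π.ker) = p := by
    have : Fact p.Prime := ⟨hp⟩
    exact orderOf_eq_prime (Subtype.ext hzp) fun h2 => h (congrArg Subtype.val h2)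
  rw [← h1]
  exact _root_.orderOf_dvd_natCard _

theorem eq_one_of_ker' {p : ℕ} (hp : p.Prime) (hZ : ¬ p ∣ Nat.card π.ker) {z : L} (hz : z ∈ π.ker) (hzp : orderOf z = p) :
    False := by
  have h1 := eq_one_of_ker hp hZ hz (by rw [← hzp]; exact pow_orderOf_eq_one z)
  rw [h1, orderOf_one] at hzp
  exact hp.one_lt.ne hzp

/-- The Sylow subgroup of a central extension of a simple group with a self-centralizing exact prime. -/
theorem setupZ [IsSimpleGroup K] (hK : ¬ IsMulCommutative K) (hs : Function.Surjective π) (hc : π.ker ≤ center L)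
    {p : ℕ} (hp : p.Prime) {N : ℕ} (hN : Nat.card K = N) {x₀ : K} (hx : orderOf x₀ = p)
    (hcx : Nat.card (centralizer ({x₀} : Set K)) = p) (hZ : ¬ p ∣ Nat.card π.ker) (e t S : ℕ)
    (hnum : chkSC N p e t S = true) :
    e * t = p - 1 ∧ e ^ 2 + p * enr p e ≤ e * S + e ^ 4 ∧ (∀ y : K, orderOf y = p → Nat.card (centralizer ({y} : Set K)) = p) ∧
      ∃ P : Sylow p L, Nat.card (P : Subgroup L) = p ∧ IsComp p (P : Subgroup L) π.ker ∧
      (centralizer ((P : Subgroup L) : Set L)).relIndex (normalizer ((P : Subgroup L) : Set L)) = e ∧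
      ∀ y : L, orderOf y = p → ∃ z ∈ (P : Subgroup L), z ≠ 1 ∧ IsConj y z := by
  classical
  have hpF : Fact p.Prime := ⟨hp⟩
  obtain ⟨hp2, ht, hS, he0, P₀, hP₀, hC₀, hrel, hconj⟩ := setup hK hp hN hx hcx e t S hnum
  obtain ⟨x₁, hx₁, -, hxx⟩ := hconj x₀ hx
  have hP0' : Nat.card (P₀ : Subgroup K) = p := hP₀
  have hC0' : centralizer ((P₀ : Subgroup K) : Set K) = (P₀ : Subgroup K) := hC₀
  have ho₁ : orderOf x₁ = p := by
    rw [← hx]
    obtain ⟨c, rfl⟩ := isConj_iff.1 hxx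
    have := orderOf_injective (MulAut.conj c).toMonoidHom (MulAut.conj c).injective x₀
    simpa only [_root_.MulEquiv.toMonoidHom_eq_coe, _root_.MonoidHom.coe_coe, _root_.MulAut.conj_apply] using this
  obtain ⟨x, hxo, hxπ⟩ := exists_lift hs hp hZ ho₁
  have hPz : (P₀ : Subgroup K) = zpowers x₁ := by
    symm
    apply Subgroup.eq_of_le_of_card_ge
    · rw [zpowers_le]; exact hx₁
    · rw [Nat.card_zpowers, ho₁]
      exact hP0'.le
  -- the Sylow subgroup of `L`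
  have hcL : ¬ p ^ 2 ∣ Nat.card L := by
    intro h
    rw [card_eq_mul hs] at h
    have h1 : p ^ 2 ∣ Nat.card K := (Nat.Coprime.pow_left 2 ((hp.coprime_iff_not_dvd).2 hZ)).dvd_of_dvd_mul_left h
    simp only [chkSC, Bool.and_eq_true, Bool.not_eq_true', ← Bool.not_eq_true, Nat.beq_eq] at hnum
    obtain ⟨⟨⟨⟨⟨-, -⟩, hN1⟩, -⟩, -⟩, -⟩ := hnum
    rw [hN] at h1
    exact hN1 (Nat.mod_eq_zero_of_dvd h1)
  have hpL : p ∣ Nat.card L := by rw [← hxo]; exact _root_.orderOf_dvd_natCard x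
  have hpg : IsPGroup p (zpowers x) := IsPGroup.of_card (n := 1) (by rw [Nat.card_zpowers, hxo, pow_one])
  obtain ⟨P, hxP⟩ := hpg.exists_le_sylow
  have hP : Nat.card (P : Subgroup L) = p := SmallSimple.PrimeLocal.card_of_not_sq_dvd hpL hcL P
  have hPx : (P : Subgroup L) = zpowers x := by
    symm
    apply Subgroup.eq_of_le_of_card_ge hxP
    rw [Nat.card_zpowers, hxo]
    exact hP.le
  have hmap : (P : Subgroup L).map π = (P₀ : Subgroup K) := by
    rw [hPx, hPz, MonoidHom.map_zpowers, hxπ]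
  have hxx' : ∀ u v : L, u ∈ (P : Subgroup L) → v ∈ (P : Subgroup L) → u * v = v * u := by
    intro u v hu hv
    rw [hPx] at hu hv
    obtain ⟨i, rfl⟩ := mem_zpowers_iff.1 hu
    obtain ⟨j, rfl⟩ := mem_zpowers_iff.1 hv
    rw [← zpow_add, ← zpow_add, add_comm]
  -- centralizer
  have hcent : centralizer ((P : Subgroup L) : Set L) = (centralizer ((P₀ : Subgroup K) : Set K)).comap π := by
    apply le_antisymm
    · intro y hy
      rw [mem_comap, mem_centralizer_iff]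
      intro k hk
      have hk' : k ∈ (P : Subgroup L).map π := by rw [hmap]; exact hk
      obtain ⟨u, hu, rfl⟩ := hk'
      rw [← map_mul, ← map_mul, mem_centralizer_iff.1 hy u hu]
    · intro y hy
      rw [mem_comap, hC0', ← hmap] at hy
      obtain ⟨u, hu, huy⟩ := hy
      have h1 : u⁻¹ * y ∈ π.ker := by rw [MonoidHom.mem_ker, map_mul, map_inv, huy, inv_mul_cancel]
      have h2 : y = u * (u⁻¹ * y) := by group
      rw [h2]
      refine mul_mem ?_ (center_le_centralizer _ (hc h1))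
      rw [mem_centralizer_iff]
      intro v hv
      exact hxx' v u hv hu
  -- normalizer
  have hnorm : normalizer ((P : Subgroup L) : Set L) = (normalizer ((P₀ : Subgroup K) : Set K)).comap π := by
    apply le_antisymm
    · intro y hy
      rw [mem_comap]
      apply Subgroup.mem_normalizer_fintype
      intro k hk
      have hk' : k ∈ (P : Subgroup L).map π := by rw [hmap]; exact hk
      obtain ⟨u, hu, rfl⟩ := hk'
      have h1 := (Subgroup.mem_normalizer_iff.1 hy u).1 hu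
      have h2 : π (y * u * y⁻¹) ∈ (P : Subgroup L).map π := mem_map_of_mem π h1
      rw [hmap, map_mul, map_mul, map_inv] at h2
      exact h2
    · intro y hy
      rw [mem_comap] at hy
      apply Subgroup.mem_normalizer_fintype
      intro u hu
      have h1 : π u ∈ (P₀ : Subgroup K) := by rw [← hmap]; exact mem_map_of_mem π hu
      have h2 := (Subgroup.mem_normalizer_iff.1 hy (π u)).1 h1
      have h3 : π (y * u * y⁻¹) ∈ (P : Subgroup L).map π := by
        rw [hmap, map_mul, map_mul, map_inv]; exact h2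
      obtain ⟨w, hw, hwy⟩ := h3
      have h4 : w⁻¹ * (y * u * y⁻¹) ∈ π.ker := by
        rw [MonoidHom.mem_ker, map_mul, map_inv, hwy, inv_mul_cancel]
      have hup : ∀ v ∈ (P : Subgroup L), v ^ p = 1 := by
        intro v hv
        have h5 : (⟨v, hv⟩ : (P : Subgroup L)) ^ Nat.card (P : Subgroup L) = 1 := pow_card_eq_one'
        rw [hP] at h5
        exact congrArg Subtype.val h5
      have h5 : w⁻¹ * (y * u * y⁻¹) = 1 := by
        apply eq_one_of_ker hp hZ h4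
        have h6 : Commute w (w⁻¹ * (y * u * y⁻¹)) := mem_center_iff.1 (hc h4) w
        have h7 : (w * (w⁻¹ * (y * u * y⁻¹))) ^ p = 1 := by
          have h8 : w * (w⁻¹ * (y * u * y⁻¹)) = y * u * y⁻¹ := by group
          rw [h8, conj_pow, hup u hu, mul_one, mul_inv_cancel]
        rw [h6.mul_pow, hup w hw, _root_.one_mul] at h7
        exact h7
      have h6 : y * u * y⁻¹ = w := (inv_mul_eq_one.1 h5).symm
      show y * u * y⁻¹ ∈ (P : Subgroup L)
      rw [h6]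
      exact hw
  have hrel' : (centralizer ((P : Subgroup L) : Set L)).relIndex (normalizer ((P : Subgroup L) : Set L)) = e := by
    rw [hcent, hnorm, Subgroup.relIndex_comap, Subgroup.map_comap_eq_self_of_surjective hs]
    exact hrel
  -- the complement
  have hcomp : IsComp p (P : Subgroup L) π.ker := by
    intro y
    constructor
    · intro hy
      refine ⟨center_le_centralizer _ (hc hy), fun h => hZ (h.trans ?_)⟩
      have h1 : orderOf (⟨y, hy⟩ : π.ker) = orderOf y := by rw [← Subgroup.orderOf_coe]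
      rw [← h1]
      exact _root_.orderOf_dvd_natCard _
    · rintro ⟨hy, hyp⟩
      rw [hcent, mem_comap, hC0'] at hy
      rw [MonoidHom.mem_ker]
      by_contra h1
      apply hyp
      rw [← order_eq (P := (P₀ : Subgroup K)) hP0' hy h1]
      exact orderOf_map_dvd π y
  -- conjugacy
  have hconj' : ∀ y : L, orderOf y = p → ∃ z ∈ (P : Subgroup L), z ≠ 1 ∧ IsConj y z := by
    intro y hy
    have hpg' : IsPGroup p (zpowers y) := IsPGroup.of_card (n := 1) (by rw [Nat.card_zpowers, hy, pow_one])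
    obtain ⟨Q, hyQ⟩ := hpg'.exists_le_sylow
    obtain ⟨g, hg⟩ := MulAction.exists_smul_eq L Q P
    refine ⟨g * y * g⁻¹, ?_, ?_, isConj_iff.2 ⟨g, rfl⟩⟩
    · rw [← hg]
      have := Subgroup.smul_mem_pointwise_smul y (MulAut.conj g) (Q : Subgroup L) (hyQ (mem_zpowers y))
      exact this
    · intro h
      have h3 : y = 1 := by
        have : g⁻¹ * (g * y * g⁻¹) * g = y := by group
        rw [h] at this
        rw [← this]; group
      rw [h3, orderOf_one] at hy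
      exact hp.one_lt.ne hy
  refine ⟨ht, hS, ?_, P, hP, hcomp, hrel', hconj'⟩
  intro y hy
  obtain ⟨z, hzP, hz1, hyz⟩ := hconj y hy
  have h2 : centralizer ({z} : Set K) = (P₀ : Subgroup K) := by
    rw [← hC0', ← zpowers_eq (P := (P₀ : Subgroup K)) hP0' hzP hz1, SmallSimple.SelfCentPrime.centralizer_zpowers]
  rw [← Blocks.SylowIn.card_centralizer_of_isConj hyz, h2]
  exact hP0'

/-- **The moments in a central extension of a simple group with a self-centralizing exact prime.** -/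
theorem SZ.lift [IsSimpleGroup K] (hK : ¬ IsMulCommutative K) (hs : Function.Surjective π) (hc : π.ker ≤ center L)
    {p : ℕ} (hp : p.Prime) {N : ℕ} (hN : Nat.card K = N) {x₀ : K} (hx : orderOf x₀ = p)
    (hcx : Nat.card (centralizer ({x₀} : Set K)) = p) (hZ : ¬ p ∣ Nat.card π.ker) (e t S : ℕ)
    (hnum : chkSC N p e t S = true) : SZ L π.ker p S ∧ ∃ x : L, orderOf x = p ∧ π x = x₀ := by
  have hpF : Fact p.Prime := ⟨hp⟩
  obtain ⟨ht, hS, -, P, hP, hcomp, hrel, hconj⟩ := setupZ hK hs hc hp hN hx hcx hZ e t S hnum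
  exact ⟨SZ.of_sylow hc hcomp hP hrel ht hS hconj, exists_lift hs hp hZ hx⟩

/-- The degrees over the trivial central character. -/
theorem deg_base (hs : Function.Surjective π) (χ : IrrCharacter L) (h : Lies π.ker (one1 π.ker : π.ker → ℂ) (χ : L → ℂ)) :
    ∃ ψ : IrrCharacter K, (χ : L → ℂ) = (ψ : K → ℂ) ∘ π := by
  have h1 : π.ker ≤ H686.CharKit.chKer χ := by
    intro z hz
    rw [H686.CharKit.mem_chKer]
    have h2 := h 1 ⟨z, hz⟩
    rw [_root_.one_mul] at h2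
    rw [h2, one1_apply, mul_one]
  obtain ⟨ψ, hψ⟩ := H686.CharKit.exists_infl π.ker χ h1
  let e' : L ⧸ π.ker ≃* K := QuotientGroup.quotientKerEquivOfSurjective π hs
  refine ⟨⟨(ψ : L ⧸ π.ker → ℂ) ∘ e'.symm.toMonoidHom, Core.isIrr_comp e'.symm.toMonoidHom e'.symm.surjective ψ.2⟩, ?_⟩
  funext g
  rw [← hψ, H686.CharKit.infl_apply]
  show (ψ : L ⧸ π.ker → ℂ) (g : L ⧸ π.ker) = (ψ : L ⧸ π.ker → ℂ) (e'.symm (π g))
  refine congrArg (ψ : L ⧸ π.ker → ℂ) ?_
  rw [MulEquiv.eq_symm_apply]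
  rfl

theorem deg_base_le (hs : Function.Surjective π) {p d : ℕ}
    (hd : ∀ ψ : IrrCharacter K, (ψ : K → ℂ) ≠ 1 → ¬ p ∣ charDegree (ψ : K → ℂ) → d ≤ charDegree (ψ : K → ℂ))
    (χ : IrrCharacter L) (h : Lies π.ker (one1 π.ker : π.ker → ℂ) (χ : L → ℂ)) (h1 : (χ : L → ℂ) ≠ 1)
    (h2 : ¬ p ∣ charDegree (χ : L → ℂ)) : d ≤ charDegree (χ : L → ℂ) := by
  obtain ⟨ψ, hψ⟩ := deg_base hs χ h
  have h3 : charDegree (χ : L → ℂ) = charDegree (ψ : K → ℂ) := by
    unfold charDegree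
    rw [hψ]
    simp
  rw [h3] at h2 ⊢
  apply hd ψ _ h2
  intro h4
  apply h1
  rw [hψ, h4]
  rfl

theorem card_irr_ker (hc : π.ker ≤ center L) : Nat.card (IrrCharacter π.ker) = Nat.card π.ker := by
  have h1 : Nat.card (π.ker →* ℂˣ) = Nat.card π.ker := by
    rw [Linear.card_hom_eq_index_commutator]
    have h2 : _root_.commutator π.ker = ⊥ := by
      rw [commutator_def, Subgroup.commutator_eq_bot_iff_le_centralizer]
      intro a _
      rw [mem_centralizer_iff]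
      intro b _
      exact Subtype.ext (mem_center_iff.1 (hc a.2) b)
    rw [h2, index_bot]
  rw [← h1, Nat.card_congr (Linear.linearEquiv π.ker)]
  refine Nat.card_congr ⟨fun χ => ⟨χ, theta_one hc χ⟩, fun χ => χ.1, fun _ => rfl, fun _ => rfl⟩

omit [Finite K] in
/-- a nontrivial central character -/
theorem exists_ne_of_lies {θ : IrrCharacter π.ker} (hθ : θ ≠ one1 π.ker) {χ : IrrCharacter L}
    (h : Lies π.ker (θ : π.ker → ℂ) (χ : L → ℂ)) : ∃ z ∈ π.ker, (χ : L → ℂ) z ≠ (χ : L → ℂ) 1 := by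
  by_contra hno
  push Not at hno
  apply hθ
  apply Subtype.ext
  funext z
  have h1 := h 1 z
  rw [_root_.one_mul, hno z z.2] at h1
  rw [one1_apply]
  have h2 : (χ : L → ℂ) 1 * 1 = (χ : L → ℂ) 1 * (θ : π.ker → ℂ) z := by rw [mul_one]; exact h1
  exact (mul_left_cancel₀ (irr_one_ne χ) h2).symm

/-- **The sieve in `L` with two bounds**: `d₁` for the degrees of `K`, `d₂` for the degrees of the characters that are not
trivial on `Z`. -/
theorem SZ.prd_two {p S : ℕ} (h : SZ L π.ker p S) (hs : Function.Surjective π) (hc : π.ker ≤ center L) {x y g : L}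
    (hx : orderOf x = p) (hy : orderOf y = p) {m d₁ d₂ c : ℕ} (A B : ℕ) (hm : Nat.card π.ker ≤ m)
    (hd₁ : ∀ ψ : IrrCharacter K, (ψ : K → ℂ) ≠ 1 → ¬ p ∣ charDegree (ψ : K → ℂ) → d₁ ≤ charDegree (ψ : K → ℂ))
    (hd₂ : ∀ χ : IrrCharacter L, (∃ z ∈ π.ker, (χ : L → ℂ) z ≠ (χ : L → ℂ) 1) → ¬ p ∣ charDegree (χ : L → ℂ) →
      d₂ ≤ charDegree (χ : L → ℂ))
    (hcard : Nat.card (centralizer ({π g} : Set K)) ≤ c)
    (hnum : (S - 1) * (c - 1) ≤ A ^ 2 ∧ S * c ≤ B ^ 2 ∧ A * d₂ + (m - 1) * B * d₁ < d₁ * d₂ ∧ 1 ≤ S) : Prd x y g := by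
  classical
  obtain ⟨hA, hB, hn, hS1⟩ := hnum
  have hd0 : 0 < d₁ ∧ 0 < d₂ := by
    have h1 : 0 < d₁ * d₂ := (Nat.zero_le _).trans_lt hn
    exact ⟨Nat.pos_of_mul_pos_right h1, Nat.pos_of_mul_pos_left h1⟩
  have hc1 : 1 ≤ c := le_trans (Nat.card_pos (α := centralizer ({π g} : Set K))) hcard
  have hm1 : 1 ≤ m := le_trans (Nat.card_pos (α := π.ker)) hm
  have hfin : Finite (IrrCharacter π.ker) := Core.finite_irr
  have := Fintype.ofFinite (IrrCharacter π.ker)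
  refine h.prd hs hc hx hy (fun θ => if θ = one1 π.ker then (d₁ : ℝ) else d₂) ?_ ?_ hcard (A := (A : ℝ)) (B := (B : ℝ))
    (by positivity) ?_ (by positivity) ?_ ?_
  · intro θ
    split_ifs
    · exact_mod_cast hd0.1
    · exact_mod_cast hd0.2
  · intro θ χ h1 h2 h3
    split_ifs with h4
    · rw [h4] at h1
      exact_mod_cast deg_base_le hs hd₁ χ h1 h2 h3
    · exact_mod_cast hd₂ χ (exists_ne_of_lies h4 h1) h3
  · have h1 : (((S - 1) * (c - 1) : ℕ) : ℝ) ≤ ((A ^ 2 : ℕ) : ℝ) := by exact_mod_cast hA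
    rw [Nat.cast_mul, Nat.cast_sub hS1, Nat.cast_sub hc1] at h1
    push_cast at h1
    exact h1
  · exact_mod_cast hB
  · rw [if_pos rfl, Finset.sum_congr rfl (g := fun _ => (B : ℝ) / d₂)
      fun θ hθ => by rw [if_neg (Finset.ne_of_mem_erase hθ)], Finset.sum_const, nsmul_eq_mul,
      Finset.card_erase_of_mem (Finset.mem_univ _), Finset.card_univ, ← Nat.card_eq_fintype_card, card_irr_ker hc]
    have h1 : ((Nat.card π.ker - 1 : ℕ) : ℝ) ≤ ((m - 1 : ℕ) : ℝ) := by exact_mod_cast Nat.sub_le_sub_right hm 1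
    have h2 : (0 : ℝ) < d₁ := by exact_mod_cast hd0.1
    have h3 : (0 : ℝ) < d₂ := by exact_mod_cast hd0.2
    have h4 : ((A * d₂ + (m - 1) * B * d₁ : ℕ) : ℝ) < ((d₁ * d₂ : ℕ) : ℝ) := by exact_mod_cast hn
    push_cast at h4
    have h5 : ((Nat.card π.ker - 1 : ℕ) : ℝ) * ((B : ℝ) / d₂) ≤ ((m - 1 : ℕ) : ℝ) * ((B : ℝ) / d₂) := by
      gcongr
    refine lt_of_le_of_lt (add_le_add_right h5 _) ?_
    rw [div_add' _ _ _ h2.ne', div_lt_one h2, ← mul_lt_mul_iff_left₀ h3]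
    calc ((A : ℝ) + ((m - 1 : ℕ) : ℝ) * ((B : ℝ) / d₂) * d₁) * d₂ = A * d₂ + ((m - 1 : ℕ) : ℝ) * B * d₁ := by
          field_simp
      _ < d₁ * d₂ := h4

end Cfsg.Agent.H113.QS
end

private theorem dce_201ebed55c4b : _root_.True := by
  try have : _root_.True := by simp only [_root_.Cfsg.Agent.H113.QS.ov.eq_1]
  try have : _root_.True := by simp only [_root_.Cfsg.Agent.H113.QS.tr.eq_1]
  exact _root_.True.intro
end

-- part: H113/QS/DatZ
section
prune_inst 0x1000110024000000000000102000044022000002000880000040010004814040800008002000000010a4804400300000001000000000000000004000011800800000020090080080200000003006005000081080000000000000000000000000004010000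
set_option linter.all false
open scoped Cfsg.Agent.FastGrp

/-!
# The sieve in a central extension, exceptional and non-exceptional characters separately (helper113, C4 for S2491, S2492)

* `DatZ L Z p e t θ NE X` : the block of defect one over the central character `θ`; `exists_datZ` : the constructor;
* `DatZ.block` : the bound of the sum over the block;
* `prd_split` : the sieve with `DN`, `DX` (characters of `K`) and `DN'`, `DX'` (nontrivial central characters).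
-/

set_option autoImplicit false
set_option linter.unusedSectionVars false

namespace Cfsg.Agent.H113.QS

open Cfsg Cfsg.Agent.Characters Subgroup Cfsg.Agent.H65.Ore
open Cfsg.Agent.SmallSimple.ThetaSetup Cfsg.Agent.SmallSimple.ThetaOrtho
open Cfsg.Agent.SmallSimple.TheoremC Cfsg.Agent.SmallSimple.TheoremCCor Cfsg.Agent.SmallSimple.ThetaCount
open scoped ComplexConjugate

universe u v

variable {L : Type u} [Group L] {K : Type v} [Group K]

/-- The block over a central character. -/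
structure DatZ (L : Type u) [Group L] (Z : Subgroup L) (p e t : ℕ) (θ : IrrCharacter Z)
    (NE X : Finset (IrrCharacter L)) : Prop where
  disj : Disjoint NE X
  cardNE : NE.card = e
  cardX : X.card = t
  het : e * t = p - 1
  lies : ∀ χ : IrrCharacter L, χ ∈ NE ∨ χ ∈ X → Lies Z (θ : Z → ℂ) (χ : L → ℂ)
  ne_val : ∀ χ ∈ NE, ∀ x : L, orderOf x = p → ‖(χ : L → ℂ) x‖ = 1
  ne_sign : ∀ χ ∈ NE, ∀ x : L, orderOf x = p → ((χ : L → ℂ) x = 1 ∧ charDegree (χ : L → ℂ) % p = 1) ∨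
    ((χ : L → ℂ) x = -1 ∧ charDegree (χ : L → ℂ) % p = p - 1)
  x_val : ∀ x : L, orderOf x = p → ∑ Θ ∈ X, ‖(Θ : L → ℂ) x‖ ^ 2 ≤ (p : ℝ) - e
  off : ∀ χ : IrrCharacter L, Lies Z (θ : Z → ℂ) (χ : L → ℂ) → χ ∉ NE → χ ∉ X → ∀ x : L, orderOf x = p →
    (χ : L → ℂ) x = 0
  eq_of : ∀ Θ ∈ X, ∀ Θ' ∈ X, ∀ g : L, ¬ p ∣ orderOf g → (Θ : L → ℂ) g = (Θ' : L → ℂ) g
  ne_deg : ∀ χ ∈ NE, charDegree (χ : L → ℂ) % p = 1 ∨ charDegree (χ : L → ℂ) % p = p - 1
  x_deg : ∀ Θ ∈ X, charDegree (Θ : L → ℂ) % p = e ∨ charDegree (Θ : L → ℂ) % p = p - e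

variable [Finite L] {Z : Subgroup L}

/-- the local constructor -/
theorem DatZ.of_sylow {p : ℕ} [hp : Fact p.Prime] {P : Sylow p L} (hZ : Z ≤ center L)
    (hK : IsComp p (P : Subgroup L) Z) (hP : Nat.card P = p) {e t : ℕ}
    (he : (centralizer ((P : Subgroup L) : Set L)).relIndex (normalizer ((P : Subgroup L) : Set L)) = e)
    (ht : e * t = p - 1)
    (hconj : ∀ y : L, orderOf y = p → ∃ z ∈ (P : Subgroup L), z ≠ 1 ∧ IsConj y z)
    (hsum : ∀ [Fintype (IrrCharacter L)] (x : L), orderOf x = p → ∀ θ : IrrCharacter Z,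
      ∑ χ ∈ ov Z (θ : Z → ℂ), ‖(χ : L → ℂ) x‖ ^ 2 ≤ (p : ℝ)) (θ : IrrCharacter Z) :
    ∃ NE X : Finset (IrrCharacter L), DatZ L Z p e t θ NE X := by
  classical
  have he0 : 0 < e := by
    rcases Nat.eq_zero_or_pos e with h | h
    · rw [h, zero_mul] at ht
      have := hp.out.two_le
      omega
    · exact h
  have hep : e < p := by
    have h1 : e ≤ p - 1 := Nat.le_of_dvd (by have := hp.out.two_le; omega) ⟨t, ht.symm⟩
    have := hp.out.two_le
    omega
  have hst := stable hZ hK θ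
  have he' := (card_stabAct_of_stable hK hP θ.2 hst).trans he
  obtain ⟨NE, X, ε, d, S, hOv, hdis, hNE, hX, hε, hd, hv, hvX, hXd, -, hreg⟩ := theoremC hK hP θ.2 he' ht
  have hpart : ∀ χ : IrrCharacter L, (χ ∈ NE ∨ χ ∈ X) → Lies Z (θ : Z → ℂ) (χ : L → ℂ) ∧
      ∀ y : L, part (θ : Z → ℂ) (χ : L → ℂ) y = (χ : L → ℂ) y := by
    intro χ hχ
    have h1 := lies_of_over hZ hK hP ((hOv χ).2 hχ)
    exact ⟨h1, part_of_lies hZ h1⟩
  have hmove : ∀ y : L, orderOf y = p → ∃ z : (P : Subgroup L), z ≠ 1 ∧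
      ∀ χ : IrrCharacter L, (χ : L → ℂ) y = (χ : L → ℂ) z := by
    intro y hy
    obtain ⟨z, hz, hz1, hyz⟩ := hconj y hy
    refine ⟨⟨z, hz⟩, fun h => hz1 (congrArg Subtype.val h), fun χ => ?_⟩
    obtain ⟨g, rfl⟩ := isConj_iff.1 hyz
    exact (Core.isIrr_isClassFunction χ.2 y g).symm
  have hne : ∀ χ ∈ NE, ∀ y : L, orderOf y = p → ‖(χ : L → ℂ) y‖ = 1 := by
    intro χ hχ y hy
    obtain ⟨z, hz1, h⟩ := hmove y hy
    rw [h χ, ← (hpart χ (Or.inl hχ)).2, hv χ hχ z hz1]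
    rcases hε χ hχ with h | h <;> rw [h] <;> simp
  have hoff : ∀ χ : IrrCharacter L, Lies Z (θ : Z → ℂ) (χ : L → ℂ) → χ ∉ NE → χ ∉ X → ∀ y : L, orderOf y = p →
      (χ : L → ℂ) y = 0 := by
    intro χ hl h1 h2 y hy
    by_contra h0
    obtain ⟨θ', hθ'⟩ := exists_mem_Over hK hP (χ := χ) ⟨y, by rw [hy], h0⟩
    have h3 := hl.unique (lies_of_over hZ hK hP hθ')
    rw [← h3] at hθ'
    rcases (hOv χ).1 hθ' with h | h
    · exact h1 h
    · exact h2 h
  have hfin : Finite (IrrCharacter L) := Core.finite_irr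
  have := Fintype.ofFinite (IrrCharacter L)
  have hpn : ∀ {n : ℕ} {a m : ℤ}, (n : ℂ) = ((a + p * m : ℤ) : ℂ) → (p : ℤ) ∣ (n : ℤ) - a := by
    intro n a m h
    have h2 : (n : ℤ) = a + p * m := by exact_mod_cast h
    exact ⟨m, by rw [h2]; ring⟩
  have hned : ∀ χ ∈ NE, (ε χ = 1 ∧ charDegree (χ : L → ℂ) % p = 1) ∨ (ε χ = -1 ∧ charDegree (χ : L → ℂ) % p = p - 1) := by
    intro χ hχ
    obtain ⟨m, hm⟩ := part_one_of_const hK hP (Core.isIrr_isCharacter χ.2) θ.2 (hv χ hχ)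
    rw [(hpart χ (Or.inl hχ)).2, cast_deg] at hm
    have h3 := hpn (a := ε χ) (m := m) (by push_cast; exact_mod_cast hm)
    rcases hε χ hχ with h | h
    · left
      rw [h] at h3
      exact ⟨h, mod_of_dvd_sub (by exact_mod_cast h3) hp.out.one_lt⟩
    · right
      rw [h, sub_neg_eq_add] at h3
      exact ⟨h, mod_of_dvd_add (by exact_mod_cast h3) one_pos hp.out.one_lt⟩
  refine ⟨NE, X, hdis, hNE, hX, ht, fun χ hχ => (hpart χ hχ).1, hne, ?_, ?_, hoff, ?_, ?_, ?_⟩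
  · intro χ hχ y hy
    obtain ⟨z, hz1, h⟩ := hmove y hy
    have h1 : (χ : L → ℂ) y = ε χ := by rw [h χ, ← (hpart χ (Or.inl hχ)).2, hv χ hχ z hz1]
    rcases hned χ hχ with ⟨h2, h3⟩ | ⟨h2, h3⟩
    · exact Or.inl ⟨by rw [h1, h2]; simp, h3⟩
    · exact Or.inr ⟨by rw [h1, h2]; simp, h3⟩
  · intro y hy
    have h1 := hsum y hy θ
    have hsub : NE ∪ X ⊆ ov Z (θ : Z → ℂ) := fun χ hχ => mem_ov.2 (hpart χ (Finset.mem_union.1 hχ)).1
    have h3 := (Finset.sum_le_sum_of_subset_of_nonneg hsub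
      (f := fun χ : IrrCharacter L => ‖(χ : L → ℂ) y‖ ^ 2) fun _ _ _ => by (clear * -; positivity)).trans h1
    rw [Finset.sum_union hdis] at h3
    have h2 : ∑ χ ∈ NE, ‖(χ : L → ℂ) y‖ ^ 2 = e := by
      rw [Finset.sum_congr rfl fun χ hχ => by rw [hne χ hχ y hy, one_pow], Finset.sum_const, hNE, nsmul_eq_mul,
        mul_one]
    rw [h2] at h3
    linarith only [h3]
  · intro Θ hΘ Θ' hΘ' g hg
    have h1 := hreg Θ hΘ g hg
    have h2 := hreg Θ' hΘ' g hg
    rw [h1] at h2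
    have hd0 : (d : ℂ) ≠ 0 := by rcases hd with rfl | rfl <;> simp
    exact mul_left_cancel₀ hd0 h2
  · intro χ hχ
    rcases hned χ hχ with h | h
    · exact Or.inl h.2
    · exact Or.inr h.2
  · intro Θ hΘ
    obtain ⟨hSc, hS1, -, hSv⟩ := hvX Θ hΘ
    obtain ⟨m, hm⟩ := part_one_of_exc hK hP (Core.isIrr_isCharacter Θ.2) θ.2 hS1 hSv
    rw [(hpart Θ (Or.inr hΘ)).2, cast_deg, hSc] at hm
    have h3 := hpn (a := d * e) (m := m) (by push_cast; exact_mod_cast hm)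
    rcases hd with h | h
    · left
      rw [h, one_mul] at h3
      exact mod_of_dvd_sub h3 hep
    · right
      rw [h, neg_one_mul, sub_neg_eq_add] at h3
      exact mod_of_dvd_add h3 he0 hep

omit [Finite L] in
theorem deg_pos (χ : IrrCharacter L) : (0 : ℝ) < charDegree (χ : L → ℂ) := by
  exact_mod_cast Nat.pos_of_ne_zero (charDegree_ne_zero χ.2)

/-- **The sum over a part `N ∪ X` of the block** (`N ⊆ NE`). -/
theorem DatZ.block [DecidableEq (IrrCharacter L)] {p e t : ℕ} {θ : IrrCharacter Z} {NE X : Finset (IrrCharacter L)} (h : DatZ L Z p e t θ NE X)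
    (hp : p.Prime) {x y g : L} (hx : orderOf x = p) (hy : orderOf y = p) (hg : ¬ p ∣ orderOf g)
    {N : Finset (IrrCharacter L)} (hN : N ⊆ NE) {DN DX c : ℝ} (hDN0 : 0 < DN) (hDX0 : 0 < DX)
    (hDN : ∀ χ ∈ N, DN ≤ charDegree (χ : L → ℂ)) (hDX : ∀ χ ∈ X, DX ≤ charDegree (χ : L → ℂ))
    (hc : ∑ χ ∈ N ∪ X, ‖(χ : L → ℂ) g‖ ^ 2 ≤ c) :
    ‖∑ χ ∈ N ∪ X, (χ : L → ℂ) x * (χ : L → ℂ) y * conj ((χ : L → ℂ) g) / (χ : L → ℂ) 1‖ ≤
      √(((N.card : ℝ) / DN ^ 2 + ((p : ℝ) - e) ^ 2 / (t * DX ^ 2)) * c) := by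
  have hd2 : Disjoint N X := h.disj.mono_left hN
  have hpe : (0 : ℝ) ≤ (p : ℝ) - e := le_trans (Finset.sum_nonneg fun _ _ => by positivity) (h.x_val x hx)
  have hCS : ‖∑ Θ ∈ X, (Θ : L → ℂ) x * (Θ : L → ℂ) y‖ ≤ (p : ℝ) - e := by
    refine (norm_sum_le _ _).trans ?_
    have h2 := Finset.sum_mul_sq_le_sq_mul_sq X (fun Θ : IrrCharacter L => ‖(Θ : L → ℂ) x‖)
      (fun Θ : IrrCharacter L => ‖(Θ : L → ℂ) y‖)
    have h2' := h2.trans (mul_le_mul (h.x_val x hx) (h.x_val y hy) (Finset.sum_nonneg fun _ _ => by positivity) hpe)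
    rw [← pow_two] at h2'
    have h3 := abs_le_of_sq_le_sq' h2' hpe
    refine le_trans (le_of_eq ?_) h3.2
    exact Finset.sum_congr rfl fun Θ _ => norm_mul _ _
  have hXb : ‖∑ χ ∈ X, (χ : L → ℂ) x * (χ : L → ℂ) y * conj ((χ : L → ℂ) g) / (χ : L → ℂ) 1‖ ≤
      ∑ Θ ∈ X, ((p : ℝ) - e) / (t * charDegree (Θ : L → ℂ)) * ‖(Θ : L → ℂ) g‖ := by
    rcases X.eq_empty_or_nonempty with hX0 | ⟨Θ₀, hΘ₀⟩
    · rw [hX0]; simp only [_root_.Finset.sum_empty, _root_.norm_zero, _root_.Std.le_refl]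
    have hone : ¬ p ∣ orderOf (1 : L) := by
      rw [orderOf_one]; exact fun h => hp.one_lt.ne' (Nat.dvd_one.1 h)
    have e1 : ∀ Θ ∈ X, (Θ : L → ℂ) g = (Θ₀ : L → ℂ) g := fun Θ hΘ => h.eq_of Θ hΘ Θ₀ hΘ₀ g hg
    have e2 : ∀ Θ ∈ X, (Θ : L → ℂ) 1 = (Θ₀ : L → ℂ) 1 := fun Θ hΘ => h.eq_of Θ hΘ Θ₀ hΘ₀ 1 hone
    have e3 : ∀ Θ ∈ X, (charDegree (Θ : L → ℂ) : ℝ) = charDegree (Θ₀ : L → ℂ) := by
      intro Θ hΘ
      have h4 := e2 Θ hΘ
      rw [cast_deg, cast_deg] at h4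
      exact_mod_cast h4
    have h5 : ∑ χ ∈ X, (χ : L → ℂ) x * (χ : L → ℂ) y * conj ((χ : L → ℂ) g) / (χ : L → ℂ) 1 =
        (∑ Θ ∈ X, (Θ : L → ℂ) x * (Θ : L → ℂ) y) * (conj ((Θ₀ : L → ℂ) g) / (Θ₀ : L → ℂ) 1) := by
      rw [Finset.sum_mul]
      refine Finset.sum_congr rfl fun Θ hΘ => ?_
      rw [e1 Θ hΘ, e2 Θ hΘ]
      ring
    have h6 : ∑ Θ ∈ X, ((p : ℝ) - e) / (t * charDegree (Θ : L → ℂ)) * ‖(Θ : L → ℂ) g‖ =
        ((p : ℝ) - e) * (‖(Θ₀ : L → ℂ) g‖ / charDegree (Θ₀ : L → ℂ)) := by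
      rw [Finset.sum_congr rfl fun Θ hΘ => by rw [e1 Θ hΘ, e3 Θ hΘ], Finset.sum_const, h.cardX, nsmul_eq_mul]
      have ht : (t : ℝ) ≠ 0 := by
        rw [← h.cardX]
        exact_mod_cast (Finset.card_pos.2 ⟨Θ₀, hΘ₀⟩).ne'
      have := (deg_pos Θ₀).ne'
      field_simp
    rw [h5, h6, norm_mul, norm_div, Complex.norm_conj, cast_deg, Complex.norm_natCast]
    exact mul_le_mul_of_nonneg_right hCS (by (clear * -; positivity))
  have hNb : ‖∑ χ ∈ N, (χ : L → ℂ) x * (χ : L → ℂ) y * conj ((χ : L → ℂ) g) / (χ : L → ℂ) 1‖ ≤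
      ∑ χ ∈ N, 1 / (charDegree (χ : L → ℂ) : ℝ) * ‖(χ : L → ℂ) g‖ := by
    refine (norm_sum_le _ _).trans (le_of_eq ?_)
    refine Finset.sum_congr rfl fun χ hχ => ?_
    have hχ' := hN hχ
    rw [norm_div, norm_mul, norm_mul, Complex.norm_conj, h.ne_val χ hχ' x hx, h.ne_val χ hχ' y hy, cast_deg,
      Complex.norm_natCast]
    ring
  set a : IrrCharacter L → ℝ := fun χ => if χ ∈ X then ((p : ℝ) - e) / (t * charDegree (χ : L → ℂ)) else
    1 / (charDegree (χ : L → ℂ) : ℝ) with ha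
  have haN : ∀ χ ∈ N, a χ = 1 / (charDegree (χ : L → ℂ) : ℝ) := fun χ hχ => by
    rw [ha]; exact if_neg (Finset.disjoint_left.1 hd2 hχ)
  have haX : ∀ χ ∈ X, a χ = ((p : ℝ) - e) / (t * charDegree (χ : L → ℂ)) := fun χ hχ => by
    rw [ha]; exact if_pos hχ
  have h7 : ‖∑ χ ∈ N ∪ X, (χ : L → ℂ) x * (χ : L → ℂ) y * conj ((χ : L → ℂ) g) / (χ : L → ℂ) 1‖ ≤
      ∑ χ ∈ N ∪ X, a χ * ‖(χ : L → ℂ) g‖ := by
    rw [Finset.sum_union hd2, Finset.sum_union hd2]
    refine (norm_add_le _ _).trans (add_le_add (hNb.trans (le_of_eq ?_)) (hXb.trans (le_of_eq ?_)))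
    · exact Finset.sum_congr rfl fun χ hχ => by rw [haN χ hχ]
    · exact Finset.sum_congr rfl fun χ hχ => by rw [haX χ hχ]
  have h8 := Real.sum_mul_le_sqrt_mul_sqrt (N ∪ X) a (fun χ : IrrCharacter L => ‖(χ : L → ℂ) g‖)
  have ha2 : ∑ χ ∈ N ∪ X, a χ ^ 2 ≤ (N.card : ℝ) / DN ^ 2 + ((p : ℝ) - e) ^ 2 / (t * DX ^ 2) := by
    rw [Finset.sum_union hd2]
    refine add_le_add ?_ ?_
    · have h2 : ∑ χ ∈ N, a χ ^ 2 ≤ ∑ _χ ∈ N, (1 / DN) ^ 2 := by
        refine Finset.sum_le_sum fun χ hχ => ?_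
        rw [haN χ hχ]
        have h3 := hDN χ hχ
        have := deg_pos χ
        gcongr
      rw [Finset.sum_const, nsmul_eq_mul] at h2
      refine h2.trans (le_of_eq ?_)
      field_simp
    · have h3 : ∑ Θ ∈ X, a Θ ^ 2 ≤ ∑ _Θ ∈ X, (((p : ℝ) - e) / (t * DX)) ^ 2 := by
        refine Finset.sum_le_sum fun Θ hΘ => ?_
        rw [haX Θ hΘ]
        have h4 := hDX Θ hΘ
        have := deg_pos Θ
        have ht : (0 : ℝ) < t := by
          rw [← h.cardX]
          exact_mod_cast Finset.card_pos.2 ⟨Θ, hΘ⟩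
        gcongr
      rw [Finset.sum_const, h.cardX, nsmul_eq_mul] at h3
      refine h3.trans (le_of_eq ?_)
      rcases Nat.eq_zero_or_pos t with h0 | h0
      · rw [h0]; simp
      · have ht : (t : ℝ) ≠ 0 := by exact_mod_cast h0.ne'
        field_simp
  refine h7.trans (h8.trans ?_)
  have hw0 : 0 ≤ (N.card : ℝ) / DN ^ 2 + ((p : ℝ) - e) ^ 2 / (t * DX ^ 2) :=
    le_trans (Finset.sum_nonneg fun _ _ => by (clear * -; positivity)) ha2
  rw [Real.sqrt_mul hw0]
  exact mul_le_mul (Real.sqrt_le_sqrt ha2) (Real.sqrt_le_sqrt hc) (Real.sqrt_nonneg _) (Real.sqrt_nonneg _)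

section Ext

variable [Finite K] {π : L →* K}

/-- **The constructor.** -/
theorem exists_datZ [IsSimpleGroup K] (hK : ¬ IsMulCommutative K) (hs : Function.Surjective π) (hc : π.ker ≤ center L)
    {p : ℕ} (hp : p.Prime) {N : ℕ} (hN : Nat.card K = N) {x₀ : K} (hx : orderOf x₀ = p)
    (hcx : Nat.card (centralizer ({x₀} : Set K)) = p) (hZ : ¬ p ∣ Nat.card π.ker) (e t S : ℕ)
    (hnum : chkSC N p e t S = true) (θ : IrrCharacter π.ker) :
    ∃ NE X : Finset (IrrCharacter L), DatZ L π.ker p e t θ NE X := by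
  have hpF : Fact p.Prime := ⟨hp⟩
  obtain ⟨ht, hS, hcy, P, hP, hcomp, hrel, hconj⟩ := setupZ hK hs hc hp hN hx hcx hZ e t S hnum
  refine DatZ.of_sylow hc hcomp hP hrel ht hconj ?_ θ
  intro _ x hx θ'
  have h1 := sum_lies_sq_le hs hc θ' x
  have h2 : orderOf (π x) = p := by
    have h3 : orderOf (π x) ∣ p := by rw [← hx]; exact orderOf_map_dvd π x
    rcases (Nat.dvd_prime hp).1 h3 with h4 | h4
    · exact (eq_one_of_ker' hp hZ (MonoidHom.mem_ker.2 (orderOf_eq_one_iff.1 h4)) hx).elim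
    · exact h4
  rwa [hcy _ h2] at h1

/-- the trivial character is not exceptional -/
theorem DatZ.one_mem {p e t : ℕ} {NE X : Finset (IrrCharacter L)} (h : DatZ L π.ker p e t (one1 π.ker) NE X)
    {x : L} (hx : orderOf x = p) (he1 : 1 < e) (hep : e + 1 < p) : one1 L ∈ NE := by
  by_contra hn
  have h1 : one1 L ∈ X := by
    by_contra hX
    have h2 := h.off (one1 L) one_lies hn hX x hx
    rw [one1_apply] at h2
    exact one_ne_zero h2
  have h3 := h.x_deg _ h1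
  have h4 : charDegree (one1 L : L → ℂ) = 1 := by
    have := cast_deg (one1 L)
    rw [one1_apply] at this
    exact_mod_cast this.symm
  rw [h4, Nat.mod_eq_of_lt (by omega)] at h3
  omega

/-- **The sieve, split form.** -/
theorem prd_split [IsSimpleGroup K] (hK : ¬ IsMulCommutative K) (hs : Function.Surjective π) (hc : π.ker ≤ center L)
    {p : ℕ} (hp : p.Prime) {N : ℕ} (hN : Nat.card K = N) {x₀ : K} (hx₀ : orderOf x₀ = p)
    (hcx : Nat.card (centralizer ({x₀} : Set K)) = p) (hZ : ¬ p ∣ Nat.card π.ker) (e t S : ℕ)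
    (hchk : chkSC N p e t S = true) {x y g : L} (hx : orderOf x = p) (hy : orderOf y = p) (hg : ¬ p ∣ orderOf g)
    {DN DX DN' DX' c m : ℕ} (hm : Nat.card π.ker ≤ m)
    (hDN : ∀ ψ : IrrCharacter K, (ψ : K → ℂ) ≠ 1 →
      (charDegree (ψ : K → ℂ) % p = 1 ∨ charDegree (ψ : K → ℂ) % p = p - 1) → DN ≤ charDegree (ψ : K → ℂ))
    (hDX : ∀ ψ : IrrCharacter K, (ψ : K → ℂ) ≠ 1 →
      (charDegree (ψ : K → ℂ) % p = e ∨ charDegree (ψ : K → ℂ) % p = p - e) → DX ≤ charDegree (ψ : K → ℂ))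
    (hDN' : ∀ χ : IrrCharacter L, (∃ z ∈ π.ker, (χ : L → ℂ) z ≠ (χ : L → ℂ) 1) →
      (charDegree (χ : L → ℂ) % p = 1 ∨ charDegree (χ : L → ℂ) % p = p - 1) → DN' ≤ charDegree (χ : L → ℂ))
    (hDX' : ∀ χ : IrrCharacter L, (∃ z ∈ π.ker, (χ : L → ℂ) z ≠ (χ : L → ℂ) 1) →
      (charDegree (χ : L → ℂ) % p = e ∨ charDegree (χ : L → ℂ) % p = p - e) → DX' ≤ charDegree (χ : L → ℂ))
    (hcard : Nat.card (centralizer ({π g} : Set K)) ≤ c) (r r' : ℚ)
    (hpos : 0 < DN ∧ 0 < DX ∧ 0 < DN' ∧ 0 < DX' ∧ 1 < e ∧ e + 1 < p ∧ 0 ≤ r ∧ 0 ≤ r')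
    (hr : (((e : ℚ) - 1) / DN ^ 2 + ((p : ℚ) - e) ^ 2 / (t * DX ^ 2)) * c ≤ r ^ 2)
    (hr' : ((e : ℚ) / DN' ^ 2 + ((p : ℚ) - e) ^ 2 / (t * DX' ^ 2)) * c ≤ r' ^ 2)
    (hsum : r + ((m : ℚ) - 1) * r' < 1) : Prd x y g := by
  classical
  obtain ⟨h1, h2, h3, h4, he1, hep, hr0, hr0'⟩ := hpos
  have hfinL : Finite (IrrCharacter L) := Core.finite_irr
  have := Fintype.ofFinite (IrrCharacter L)
  have hfinZ : Finite (IrrCharacter π.ker) := Core.finite_irr
  have := Fintype.ofFinite (IrrCharacter π.ker)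
  choose NE X hD using exists_datZ hK hs hc hp hN hx₀ hcx hZ e t S hchk
  have hcR : (Nat.card (centralizer ({π g} : Set K)) : ℝ) ≤ c := by exact_mod_cast hcard
  have hcc : ∀ (θ : IrrCharacter π.ker) (s : Finset (IrrCharacter L)), s ⊆ NE θ ∪ X θ →
      ∑ χ ∈ s, ‖(χ : L → ℂ) g‖ ^ 2 ≤ (c : ℝ) := by
    intro θ s hss
    have hsub : s ⊆ ov π.ker (θ : π.ker → ℂ) := fun χ hχ =>
      mem_ov.2 ((hD θ).lies χ (Finset.mem_union.1 (hss hχ)))
    exact ((Finset.sum_le_sum_of_subset_of_nonneg hsub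
      (f := fun χ : IrrCharacter L => ‖(χ : L → ℂ) g‖ ^ 2) fun _ _ _ => by (clear * -; positivity)).trans
        (sum_lies_sq_le hs hc θ g)).trans hcR
  set F : IrrCharacter L → ℂ := fun χ =>
    (χ : L → ℂ) x * (χ : L → ℂ) y * conj ((χ : L → ℂ) g) / (χ : L → ℂ) 1 with hF
  have hblock : ∀ θ : IrrCharacter π.ker, ∑ χ ∈ ov π.ker (θ : π.ker → ℂ), F χ = ∑ χ ∈ NE θ ∪ X θ, F χ := by
    intro θ
    symm
    refine Finset.sum_subset (fun χ hχ => mem_ov.2 ((hD θ).lies χ (Finset.mem_union.1 hχ))) fun χ h5 h6 => ?_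
    rw [Finset.mem_union, not_or] at h6
    rw [hF]
    simp only
    rw [(hD θ).off χ (mem_ov.1 h5) h6.1 h6.2 x hx]
    simp
  have hone := (hD (one1 π.ker)).one_mem hx he1 hep
  apply prd_of_ne_zero
  intro h0
  have h0' : ∑ χ : IrrCharacter L, F χ = 0 := h0
  rw [sum_split hc, ← Finset.add_sum_erase Finset.univ _ (Finset.mem_univ (one1 π.ker)), hblock] at h0'
  have hX1 : one1 L ∉ X (one1 π.ker) := Finset.disjoint_left.1 (hD (one1 π.ker)).disj hone
  have hun : NE (one1 π.ker) ∪ X (one1 π.ker) = insert (one1 L) ((NE (one1 π.ker)).erase (one1 L) ∪ X (one1 π.ker)) := by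
    rw [← Finset.insert_union, Finset.insert_erase hone]
  have hnot : one1 L ∉ (NE (one1 π.ker)).erase (one1 L) ∪ X (one1 π.ker) := by
    rw [Finset.mem_union, not_or]
    exact ⟨Finset.notMem_erase _ _, hX1⟩
  rw [hun, Finset.sum_insert hnot] at h0'
  have hF1 : F (one1 L) = 1 := by
    rw [hF]
    simp [one1_apply]
  rw [hF1] at h0'
  -- the bounds
  have b1 := (hD (one1 π.ker)).block hp hx hy hg (Finset.erase_subset (one1 L) _) (DN := DN) (DX := DX) (c := c)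
    (by exact_mod_cast h1) (by exact_mod_cast h2) (fun χ hχ => by
      exact_mod_cast (by
        obtain ⟨ψ, hψ⟩ := deg_base hs χ ((hD (one1 π.ker)).lies χ (Or.inl (Finset.mem_of_mem_erase hχ)))
        have h5 : charDegree (χ : L → ℂ) = charDegree (ψ : K → ℂ) := by
          unfold charDegree
          rw [hψ]
          simp
        have h6 := (hD (one1 π.ker)).ne_deg χ (Finset.mem_of_mem_erase hχ)
        rw [h5] at h6 ⊢
        refine hDN ψ (fun h7 => coe_ne_one (Finset.ne_of_mem_erase hχ) ?_) h6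
        rw [hψ, h7]
        rfl : DN ≤ charDegree (χ : L → ℂ))) (fun χ hχ => by
      exact_mod_cast (by
        obtain ⟨ψ, hψ⟩ := deg_base hs χ ((hD (one1 π.ker)).lies χ (Or.inr hχ))
        have h5 : charDegree (χ : L → ℂ) = charDegree (ψ : K → ℂ) := by
          unfold charDegree
          rw [hψ]
          simp
        have h6 := (hD (one1 π.ker)).x_deg χ hχ
        rw [h5] at h6 ⊢
        refine hDX ψ (fun h7 => hX1 ?_) h6
        have h8 : χ = one1 L := Subtype.ext (by rw [hψ, h7]; rfl)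
        rwa [h8] at hχ : DX ≤ charDegree (χ : L → ℂ))) (hcc _ _ (Finset.union_subset_union_left (Finset.erase_subset _ _)))
  rw [Finset.card_erase_of_mem hone, (hD (one1 π.ker)).cardNE, Nat.cast_sub he1.le, Nat.cast_one] at b1
  have b1' : √((((e : ℝ) - 1) / (DN : ℝ) ^ 2 + ((p : ℝ) - e) ^ 2 / (t * (DX : ℝ) ^ 2)) * c) ≤ r := by
    refine Real.sqrt_le_iff.2 ⟨by exact_mod_cast hr0, ?_⟩
    exact_mod_cast hr
  have b2 : ∀ θ ∈ Finset.univ.erase (one1 π.ker), ‖∑ χ ∈ ov π.ker (θ : π.ker → ℂ), F χ‖ ≤ (r' : ℝ) := by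
    intro θ hθ
    have hθ1 := Finset.ne_of_mem_erase hθ
    rw [hblock]
    have b3 := (hD θ).block hp hx hy hg (Finset.Subset.refl _) (DN := DN') (DX := DX') (c := c)
      (by exact_mod_cast h3) (by exact_mod_cast h4) (fun χ hχ => by
        exact_mod_cast hDN' χ (exists_ne_of_lies hθ1 ((hD θ).lies χ (Or.inl hχ))) ((hD θ).ne_deg χ hχ)) (fun χ hχ => by
        exact_mod_cast hDX' χ (exists_ne_of_lies hθ1 ((hD θ).lies χ (Or.inr hχ))) ((hD θ).x_deg χ hχ))
      (hcc _ _ (Finset.Subset.refl _))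
    rw [(hD θ).cardNE] at b3
    refine b3.trans (Real.sqrt_le_iff.2 ⟨by exact_mod_cast hr0', ?_⟩)
    have h9 : (((((e : ℚ) / DN' ^ 2 + ((p : ℚ) - e) ^ 2 / (t * DX' ^ 2)) * c : ℚ)) : ℝ) ≤ ((r' ^ 2 : ℚ) : ℝ) :=
      Rat.cast_le.2 hr'
    push_cast at h9
    exact h9
  have b4 : ‖∑ θ ∈ Finset.univ.erase (one1 π.ker), ∑ χ ∈ ov π.ker (θ : π.ker → ℂ), F χ‖ ≤ ((m : ℝ) - 1) * r' := by
    refine (norm_sum_le _ _).trans ((Finset.sum_le_sum b2).trans ?_)
    rw [Finset.sum_const, nsmul_eq_mul, Finset.card_erase_of_mem (Finset.mem_univ _), Finset.card_univ,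
      ← Nat.card_eq_fintype_card, card_irr_ker hc]
    have h5 : (1 : ℕ) ≤ Nat.card π.ker := Nat.card_pos
    rw [Nat.cast_sub h5, Nat.cast_one]
    have h6 : (Nat.card π.ker : ℝ) ≤ m := by exact_mod_cast hm
    have h7 : (0 : ℝ) ≤ r' := by exact_mod_cast hr0'
    gcongr
  have h5 : ∑ χ ∈ (NE (one1 π.ker)).erase (one1 L) ∪ X (one1 π.ker), F χ +
      ∑ θ ∈ Finset.univ.erase (one1 π.ker), ∑ χ ∈ ov π.ker (θ : π.ker → ℂ), F χ = -1 := by
    linear_combination h0'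
  have h6 := norm_add_le (∑ χ ∈ (NE (one1 π.ker)).erase (one1 L) ∪ X (one1 π.ker), F χ)
    (∑ θ ∈ Finset.univ.erase (one1 π.ker), ∑ χ ∈ ov π.ker (θ : π.ker → ℂ), F χ)
  rw [h5, norm_neg, norm_one] at h6
  have h7 : (r : ℝ) + ((m : ℝ) - 1) * r' < 1 := by exact_mod_cast hsum
  have h8 := b1.trans b1'
  linarith only [b1, b1', b4, h6, h7]

end Ext

end Cfsg.Agent.H113.QS
end
end
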